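import Cfsg.Agent.H94.M24.Rel

/-!
The stabiliser of the pair {23, 0} in the group of the code, read through tables.
-/

set_option autoImplicit false

namespace Cfsg.Agent.H85.AutM22

open Cfsg Cfsg.Agent.Golay Cfsg.Agent.H94.M24
open scoped Pointwise

/-- The mask of the pair. -/
def pairMask : ℕ := 2 ^ 23 ||| 1

/-- The stabiliser of the pair in the group of the code. -/
def pairGrp : Subgroup (Equiv.Perm GolayPt) := stabGrp [pairMask] 0

/-- A table in normal form lying in the stabiliser of the pair. -/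
def ok (T : ℕ) : Bool := inStab [pairMask] 0 T && canonT T

open Classical in
/-- The element of a table. -/
noncomputable def el (T : ℕ) : ↥pairGrp :=
  if h : mkPerm T ∈ pairGrp then ⟨mkPerm T, h⟩ else 1

/-- The table of an element. -/
noncomputable def tb (g : ↥pairGrp) : ℕ := tblOf (g : Equiv.Perm GolayPt)

lemma ok_valid {T : ℕ} (h : ok T = true) : validT T = true := by
  rw [ok, Bool.and_eq_true] at h; exact canonT_validT h.2

lemma ok_canon {T : ℕ} (h : ok T = true) : canonT T = true := by
  rw [ok, Bool.and_eq_true] at h; exact h.2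

lemma ok_mem {T : ℕ} (h : ok T = true) : mkPerm T ∈ pairGrp := by
  rw [ok, Bool.and_eq_true] at h; exact mem_stabGrp_of_inStab h.1

lemma coe_el {T : ℕ} (h : ok T = true) : (el T : Equiv.Perm GolayPt) = mkPerm T := by
  rw [el, dif_pos (ok_mem h)]

lemma canon_tb (g : ↥pairGrp) : canonT (tb g) = true := by
  rw [canonT, tb, validT_tblOf, Bool.true_and, beq_iff_eq]
  exact H94.M24.mkTbl_congr fun i hi => app_tblOf _ hi

lemma el_of_mkPerm {T : ℕ} (g : ↥pairGrp) (h : mkPerm T = (g : Equiv.Perm GolayPt)) : el T = g := by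
  have hm : mkPerm T ∈ pairGrp := h ▸ g.2
  rw [el, dif_pos hm]
  exact Subtype.ext h

lemma el_tb (g : ↥pairGrp) : el (tb g) = g := el_of_mkPerm g (mkPerm_tblOf _)

/-- A valid table in the stabiliser with its normal form. -/
structure Good (T : ℕ) : Prop where
  canon : canonT T = true
  mem : mkPerm T ∈ pairGrp

lemma good_ok {T : ℕ} (h : ok T = true) : Good T := ⟨ok_canon h, ok_mem h⟩

lemma good_tb (g : ↥pairGrp) : Good (tb g) :=
  ⟨canon_tb g, by rw [tb, mkPerm_tblOf]; exact g.2⟩

lemma Good.valid {T : ℕ} (h : Good T) : validT T = true := canonT_validT h.canon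

lemma Good.coe {T : ℕ} (h : Good T) : (el T : Equiv.Perm GolayPt) = mkPerm T := by
  rw [el, dif_pos h.mem]

lemma Good.mul {S T : ℕ} (hS : Good S) (hT : Good T) : Good (tblMul S T) :=
  ⟨canonT_tblMul hS.valid hT.valid, by
    rw [(tblMul_spec hS.valid hT.valid).2]; exact mul_mem hS.mem hT.mem⟩

lemma Good.el_mul {S T : ℕ} (hS : Good S) (hT : Good T) : el (tblMul S T) = el S * el T := by
  refine el_of_mkPerm _ ?_
  rw [(tblMul_spec hS.valid hT.valid).2, Subgroup.coe_mul, hS.coe, hT.coe]

lemma Good.inj {S T : ℕ} (hS : Good S) (hT : Good T) (h : el S = el T) : S = T := by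
  have e := congrArg (Subtype.val) h
  rw [hS.coe, hT.coe] at e
  rw [← tblOf_mkPerm hS.canon, ← tblOf_mkPerm hT.canon, e]

lemma el_id : el idTblVal = 1 := el_of_mkPerm _ idTblVal_spec.2

lemma good_id : Good idTblVal :=
  ⟨idTblVal_canon, by rw [idTblVal_spec.2]; exact one_mem _⟩

lemma Good.comm_iff {S T : ℕ} (hS : Good S) (hT : Good T) :
    tblMul S T = tblMul T S ↔ el S * el T = el T * el S := by
  rw [← hS.el_mul hT, ← hT.el_mul hS]
  exact ⟨congrArg el, (hS.mul hT).inj (hT.mul hS)⟩

/-- `C` carries `S` to `T` by conjugation. -/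
def carries (C S T : ℕ) : Bool := tblMul C S == tblMul T C

lemma Good.carries_iff {C S T : ℕ} (hC : Good C) (hS : Good S) (hT : Good T) :
    carries C S T = true ↔ el C * el S * (el C)⁻¹ = el T := by
  rw [carries, beq_iff_eq, mul_inv_eq_iff_eq_mul, ← hC.el_mul hS, ← hT.el_mul hC]
  exact ⟨congrArg el, (hC.mul hS).inj (hT.mul hC)⟩

lemma Good.pow {T : ℕ} (h : Good T) : ∀ n, Good (powT n T) ∧ el (powT n T) = el T ^ n
  | 0 => ⟨good_id, by rw [powT, el_id, pow_zero]⟩
  | n + 1 => by
    obtain ⟨h1, h2⟩ := h.pow n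
    exact ⟨h.mul h1, by rw [powT, h.el_mul h1, h2, pow_succ']⟩

lemma Good.app_eq {T : ℕ} (h : Good T) (p : GolayPt) :
    (el T : Equiv.Perm GolayPt) p = pt (app T (idx p)) := by
  rw [h.coe, mkPerm_apply h.valid]

/-- Test of a list of tables closed under right products with generators, every entry reached from
the first one. -/
def genOK (gens L par : List ℕ) : Bool :=
  gens.all ok && L.all ok && (L.getD 0 0 == idTblVal) && (par.length == L.length) &&
    (L.all fun t => gens.all fun g => L.contains (tblMul t g)) &&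
    (List.range L.length).all fun i => i == 0 ||
      (decide (par.getD i 0 / 16 < i) && decide (par.getD i 0 % 16 < gens.length) &&
        (tblMul (L.getD (par.getD i 0 / 16) 0) (gens.getD (par.getD i 0 % 16) 0) == L.getD i 0))

/-- The subgroup generated by the tables of a list. -/
noncomputable def genGrp (gens : List ℕ) : Subgroup ↥pairGrp :=
  Subgroup.closure {g | ∃ t ∈ gens, el t = g}

theorem el_mem_genGrp {gens : List ℕ} {t : ℕ} (h : t ∈ gens) : el t ∈ genGrp gens :=
  Subgroup.subset_closure ⟨t, h, rfl⟩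

theorem mem_genGrp {gens L par : List ℕ} (h : genOK gens L par = true) {g : ↥pairGrp} :
    g ∈ genGrp gens ↔ ∃ t ∈ L, el t = g := by
  simp only [genOK, Bool.and_eq_true, List.all_eq_true, beq_iff_eq, Bool.or_eq_true,
    List.mem_range, decide_eq_true_eq] at h
  obtain ⟨⟨⟨⟨⟨hg, hL⟩, h0⟩, hlen⟩, hcl⟩, hpar⟩ := h
  constructor
  · intro hm
    rw [genGrp, ← Subgroup.mem_toSubmonoid, Subgroup.closure_toSubmonoid_of_finite] at hm
    induction hm using Submonoid.closure_induction_right with
    | one =>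
      refine ⟨idTblVal, ?_, el_id⟩
      rw [← h0]
      rcases L.eq_nil_or_concat with e | ⟨_, _, e⟩
      · rw [e] at h0
        exact absurd h0 (by decide +kernel)
      · rw [List.getD_eq_getElem _ _ (by simp [e])]
        exact List.getElem_mem _
    | mul_right x _ y hy ih =>
      obtain ⟨t, ht, rfl⟩ := hy
      obtain ⟨u, hu, rfl⟩ := ih
      exact ⟨_, List.contains_iff_mem.1 (hcl u hu t ht),
        (good_ok (hL u hu)).el_mul (good_ok (hg t ht))⟩
  · rintro ⟨t, ht, rfl⟩
    obtain ⟨i, hi, rfl⟩ := List.getElem_of_mem ht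
    rw [← List.getD_eq_getElem L 0 hi]
    clear ht
    induction i using Nat.strong_induction_on with
    | _ i ih =>
      rcases hpar i hi with e | ⟨⟨h1, h2⟩, h3⟩
      · rw [e, h0, el_id]; exact one_mem _
      · rw [← h3]
        have hb : L.getD (par.getD i 0 / 16) 0 ∈ L := by
          rw [List.getD_eq_getElem _ _ (h1.trans hi)]; exact List.getElem_mem _
        have hc : gens.getD (par.getD i 0 % 16) 0 ∈ gens := by
          rw [List.getD_eq_getElem _ _ h2]; exact List.getElem_mem _
        rw [(good_ok (hL _ hb)).el_mul (good_ok (hg _ hc))]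
        exact mul_mem (ih _ h1 (h1.trans hi)) (el_mem_genGrp hc)

theorem card_genGrp {gens L par : List ℕ} (h : genOK gens L par = true) (hn : L.Nodup) :
    Nat.card (genGrp gens) = L.length := by
  have hok : ∀ t ∈ L, Good t := fun t ht => by
    simp only [genOK, Bool.and_eq_true, List.all_eq_true] at h
    exact good_ok (h.1.1.1.1.2 t ht)
  rw [← List.toFinset_card_of_nodup hn, ← Nat.card_eq_finsetCard]
  refine (Nat.card_eq_of_bijective
    (fun t => ⟨el t.1, (mem_genGrp h).2 ⟨t.1, List.mem_toFinset.1 t.2, rfl⟩⟩)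
    ⟨fun a b hab => Subtype.ext ((hok _ (List.mem_toFinset.1 a.2)).inj
      (hok _ (List.mem_toFinset.1 b.2)) (congrArg Subtype.val hab)), fun g => ?_⟩).symm
  obtain ⟨t, ht, he⟩ := (mem_genGrp h).1 g.2
  exact ⟨⟨t, List.mem_toFinset.2 ht⟩, Subtype.ext he⟩

end Cfsg.Agent.H85.AutM22
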