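import Cfsg.Agent.H85.JFour.AutM22.HexGroup
import Cfsg.Agent.H98.JFour.HexData

/-!
The facts about the hexad subgroup of the automorphism group of the Mathieu group on 22 points.
-/

set_option autoImplicit false

namespace Cfsg.Agent.H85.AutM22

open Cfsg Cfsg.Agent.Golay Cfsg.Agent.H94.M24 Cfsg.Agent.H43.JFour Cfsg.Agent.H98.JFour
open scoped Pointwise

attribute [local irreducible] tblMul mkTbl tblImg powT sList wList wGens pList pGens wConj lineGens
  octReps invList elemMasks rList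

lemma transW {a b : ↥pairGrp} (ha : a ∈ hexW) (hb : b ∈ hexW) (ha1 : a ≠ 1) (hb1 : b ≠ 1) :
    ∃ g ∈ innerGrp ⊓ normH, g * a * g⁻¹ = b := by
  obtain ⟨hw1, -, hall⟩ := wConj_ok
  simp only [List.all_eq_true, Bool.or_eq_true, beq_iff_eq, List.any_eq_true] at hall
  rw [List.contains_iff_mem] at hw1
  have key : ∀ x ∈ hexW, x ≠ 1 →
      ∃ h, (h ∈ innerGrp ∧ h ∈ normH) ∧ h * el w1 * h⁻¹ = x := by
    intro x hx hx1
    obtain ⟨t, ht, rfl⟩ := mem_hexW.1 hx
    obtain ⟨c, hc, e⟩ :=
      (hall t ht).resolve_left fun e => hx1 ((good_wList ht).el_eq_one.2 e)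
    obtain ⟨hG, hi, hn⟩ := inner_normers (List.mem_append_left lineGens hc)
    exact ⟨el c, ⟨hi, hn⟩, (hG.carries_iff (good_wList hw1) (good_wList ht)).1 e⟩
  obtain ⟨h, ⟨hi, hn⟩, e⟩ := key a ha ha1
  obtain ⟨h', ⟨hi', hn'⟩, e'⟩ := key b hb hb1
  have hi'' : h' * h⁻¹ ∈ innerGrp := mul_mem hi' (inv_mem hi)
  have hn'' : h' * h⁻¹ ∈ normH := mul_mem hn' (inv_mem hn)
  refine ⟨h' * h⁻¹, ⟨hi'', hn''⟩, ?_⟩
  rw [← e, ← e']
  group

lemma lineW {L : Subgroup ↥pairGrp} (hL : L ≤ hexW) (h4 : Nat.card L = 4) :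
    ∃ g ∈ innerGrp ⊓ normH,
      Nat.card ↥(L ⊓ L.map (MulAut.conj g).toMonoidHom) = 2 := by
  classical
  obtain ⟨⟨x, hxL⟩, hx1⟩ : ∃ x : L, x ≠ 1 := by
    haveI : Nontrivial L := Finite.one_lt_card_iff_nontrivial.1 (by omega)
    exact exists_ne 1
  have hx1' : x ≠ 1 := fun e => hx1 (Subtype.ext e)
  obtain ⟨y, hyL, hy1, hyx⟩ : ∃ y ∈ L, y ≠ 1 ∧ y ≠ x := by
    by_contra hno
    push Not at hno
    have hsub : (L : Set ↥pairGrp) ⊆ ↑({1, x} : Finset ↥pairGrp) := fun y hy => by
      simp only [Finset.coe_insert, Finset.coe_singleton, Set.mem_insert_iff,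
        Set.mem_singleton_iff]
      exact or_iff_not_imp_left.2 (hno y hy)
    have := Set.ncard_le_ncard hsub
    rw [Set.ncard_coe_finset] at this
    have h2 : ({1, x} : Finset ↥pairGrp).card ≤ 2 := Finset.card_le_two
    have hc : (L : Set ↥pairGrp).ncard = 4 := h4
    omega
  obtain ⟨a, ha, rfl⟩ := mem_hexW.1 (hL hxL)
  obtain ⟨b, hb, rfl⟩ := mem_hexW.1 (hL hyL)
  have ga := good_wList ha
  have gb := good_wList hb
  have hl := line_ok
  simp only [List.all_eq_true, Bool.or_eq_true, beq_iff_eq] at hl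
  have ht : lineTest a b = true := (hl a ha b hb).resolve_left (by
    rintro ((e | e) | e)
    · exact hx1' (ga.el_eq_one.2 e)
    · exact hy1 (gb.el_eq_one.2 e)
    · exact hyx (by rw [e]))
  simp only [lineTest, forceL_eq, Bool.and_eq_true, decide_eq_true_eq, List.any_eq_true] at ht
  obtain ⟨hnd, g, hg, hlen⟩ := ht
  set l := [idTblVal, a, b, tblMul a b] with hldef
  have hgood : ∀ t ∈ l, Good t := by
    simp only [hldef, List.mem_cons, List.not_mem_nil, or_false, forall_eq_or_imp, forall_eq]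
    exact ⟨good_id, ga, gb, ga.mul gb⟩
  have hmemL : ∀ t ∈ l, el t ∈ L := by
    simp only [hldef, List.mem_cons, List.not_mem_nil, or_false, forall_eq_or_imp, forall_eq]
    exact ⟨by rw [el_id]; exact one_mem _, hxL, hyL, by rw [ga.el_mul gb]; exact mul_mem hxL hyL⟩
  have hmem : ∀ z : ↥pairGrp, z ∈ L ↔ ∃ t ∈ l, el t = z := by
    have hsub : (↑(l.toFinset.image el) : Set ↥pairGrp) ⊆ (L : Set ↥pairGrp) := by
      intro z hz
      rw [Finset.mem_coe, Finset.mem_image] at hz
      obtain ⟨t, ht, rfl⟩ := hz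
      exact hmemL t (List.mem_toFinset.1 ht)
    have hcard : (↑(l.toFinset.image el) : Set ↥pairGrp).ncard = 4 := by
      rw [Set.ncard_coe_finset, Finset.card_image_of_injOn, List.toFinset_card_of_nodup hnd]
      · rfl
      · intro s hs t ht e
        exact (hgood s (List.mem_toFinset.1 hs)).inj (hgood t (List.mem_toFinset.1 ht)) e
    have heq := Set.eq_of_subset_of_ncard_le hsub
      (by rw [hcard]; exact h4.le) (Set.toFinite _)
    intro z
    rw [← SetLike.mem_coe, ← heq, Finset.mem_coe, Finset.mem_image]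
    simp only [List.mem_toFinset]
  obtain ⟨hG, hi, hn⟩ := inner_normers (List.mem_append_right wConj hg)
  refine ⟨el g, ⟨hi, hn⟩, ?_⟩
  rw [← eq_of_beq hlen]
  refine card_of_list (hnd.filter _) (fun t ht => hgood t (List.mem_filter.1 ht).1)
    fun z => ⟨fun hz => ?_, ?_⟩
  · obtain ⟨t, ht, rfl⟩ := (hmem z).1 hz.1
    obtain ⟨u, hu, he⟩ := hz.2
    obtain ⟨s, hs, rfl⟩ := (hmem u).1 hu
    exact ⟨t, List.mem_filter.2 ⟨ht, List.any_eq_true.2
      ⟨s, hs, (hG.carries_iff (hgood s hs) (hgood t ht)).2 he⟩⟩, rfl⟩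
  · rintro ⟨t, ht, rfl⟩
    rw [List.mem_filter, List.any_eq_true] at ht
    obtain ⟨ht, s, hs, e⟩ := ht
    exact ⟨hmemL t ht, el s, hmemL s hs, (hG.carries_iff (hgood s hs) (hgood t ht)).1 e⟩

lemma elem_le_inner {B : Subgroup ↥pairGrp} (hB : B ≤ innerGrp)
    (he : IsElementaryAbelian 2 B) : Nat.card B ≤ 16 := by
  haveI : Fact (Nat.Prime 2) := ⟨Nat.prime_two⟩
  have h32 := elem_le he
  have hne : Nat.card B ≠ 32 := fun h => by
    obtain ⟨g, hg⟩ := exists_conj_baseR (R := B) ⟨he, h⟩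
    have hno := rList_outer
    rw [Bool.eq_false_iff, ne_eq, List.all_eq_true] at hno
    refine hno fun t ht => (good_rList ht).isInner_iff'.2 ?_
    have hm : g * el t * g⁻¹ ∈ innerGrp := hB (hg.le ⟨el t, mem_baseR.2 ⟨t, ht, rfl⟩, rfl⟩)
    have := innerGrp_normal.conj_mem _ hm g⁻¹
    rwa [inv_inv, conj_inv_conj] at this
  obtain ⟨k, hk⟩ := IsPGroup.iff_card.1 (isPGroup_elem he)
  rw [hk] at h32 hne ⊢
  have hk5 : k < 5 := by
    by_contra h
    rcases (not_lt.1 h).lt_or_eq with h | h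
    · have := Nat.pow_le_pow_right (show 0 < 2 by norm_num) h
      norm_num at this
      omega
    · exact hne (by rw [← h]; norm_num)
  exact le_trans (Nat.pow_le_pow_right (by norm_num) (Nat.le_of_lt_succ hk5)) (by norm_num)

lemma meetW {B : Subgroup ↥pairGrp} (hB : B ≤ innerGrp ⊓ normH)
    (he : IsElementaryAbelian 2 B) (h16 : Nat.card B = 16) : 4 ≤ Nat.card ↥(B ⊓ hexW) := by
  classical
  haveI : Fact (Nat.Prime 2) := ⟨Nat.prime_two⟩
  obtain ⟨g, hg, hle⟩ := exists_conj_le_in (p := 2) isPGroup_sylS sylS_le_normH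
    (isPGroup_elem he) (hB.trans inf_le_right) (by rw [card_sylS, card_normH]; norm_num)
  set B' := B.map (MulAut.conj g).toMonoidHom with hB'
  have hW : hexW.map (MulAut.conj g).toMonoidHom = hexW := map_conj_eq_self_iff.2 hg
  rw [← card_map_e (MulAut.conj g), Subgroup.map_inf _ _ _ (MulAut.conj g).injective, hW, ← hB']
  obtain ⟨m, hm, hmB, -, hcard⟩ :=
    exists_mask ((elem_map_e (MulAut.conj g) 2 B).2 he) hle
  rw [card_map_e, h16] at hcard
  obtain ⟨hw, hnd, htest⟩ := meet_ok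
  simp only [List.all_eq_true, forceL_eq, Bool.or_eq_true, decide_eq_true_eq, List.any_eq_true,
    Bool.not_eq_true'] at htest
  simp only [List.all_eq_true, List.mem_range, Bool.or_eq_true, Bool.not_eq_true',
    List.contains_iff_mem] at hw
  have hinner : ∀ i ∈ bitsOf m, isInner (invList.getD i 0) = true := fun i hi => by
    refine (invList_facts.1 _ (getD_invList_mem (mem_bitsOf.1 hi).1)).1.isInner_iff'.2 ?_
    obtain ⟨u, hu, hue⟩ := hmB i hi
    show inv' i ∈ innerGrp
    rw [← show _ = inv' i from hue]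
    exact innerGrp_normal.conj_mem u (hB hu).1 g
  have h3 : 3 ≤ (meetList m).length := (htest m hm).resolve_left (by
    rintro (h | ⟨i, hi, h⟩)
    · omega
    · rw [hinner i hi] at h; exact Bool.noConfusion h)
  have hinj : ∀ i ∈ meetList m, ∀ j ∈ meetList m, inv' i = inv' j → i = j := by
    intro i hi j hj e
    have hi' := (mem_bitsOf.1 (List.mem_filter.1 hi).1).1
    have hj' := (mem_bitsOf.1 (List.mem_filter.1 hj).1).1
    have := (invList_facts.1 _ (getD_invList_mem hi')).1.inj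
      (invList_facts.1 _ (getD_invList_mem hj')).1 e
    rw [List.getD_eq_getElem _ _ hi', List.getD_eq_getElem _ _ hj'] at this
    exact hnd.getElem_inj_iff.1 this
  have hndm : (meetList m).Nodup := (List.nodup_range.filter _).filter _
  have hsub : (↑(insert 1 ((meetList m).toFinset.image inv')) : Set ↥pairGrp) ⊆
      ((B' ⊓ hexW : Subgroup ↥pairGrp) : Set ↥pairGrp) := by
    intro z hz
    rw [Finset.coe_insert, Set.mem_insert_iff, Finset.mem_coe, Finset.mem_image] at hz
    rcases hz with rfl | ⟨i, hi, rfl⟩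
    · exact one_mem _
    · rw [List.mem_toFinset, meetList, List.mem_filter] at hi
      exact ⟨hmB i hi.1, mem_hexW.2 ⟨_, (hw i (mem_bitsOf.1 hi.1).1).resolve_left
        (by rw [hi.2]; simp), rfl⟩⟩
  refine le_trans ?_ (Set.ncard_le_ncard hsub)
  rw [Set.ncard_coe_finset, Finset.card_insert_of_notMem, Finset.card_image_of_injOn,
    List.toFinset_card_of_nodup hndm]
  · omega
  · intro i hi j hj
    exact hinj i (List.mem_toFinset.1 hi) j (List.mem_toFinset.1 hj)
  · rw [Finset.mem_image]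
    rintro ⟨i, hi, e⟩
    exact (invList_facts.1 _ (getD_invList_mem
      (mem_bitsOf.1 (List.mem_filter.1 (List.mem_toFinset.1 hi)).1).1)).2 e

theorem hexData_pairGrp : HexData ↥pairGrp innerGrp hexW where
  le _ hx := by
    obtain ⟨t, ht, rfl⟩ := mem_hexW.1 hx
    exact (wList_facts t ht).1
  elem := elem_hexW
  card := card_hexW
  cent := cent_hexW
  card_norm := card_normH
  trans _ ha _ hb := transW ha hb
  line _ := lineW
  elem_le _ := elem_le_inner
  meet _ := meetW

theorem hexData_map {A B : Type*} [Group A] [Group B] (e : A ≃* B) {M W : Subgroup A}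
    (d : HexData A M W) : HexData B (M.map e.toMonoidHom) (W.map e.toMonoidHom) where
  le := Subgroup.map_mono d.le
  elem := (elem_map_e e 2 W).2 d.elem
  card := (card_map_e e W).trans d.card
  cent := by rw [cent_map_e, d.cent]
  card_norm := by rw [norm_map_e, card_map_e, d.card_norm]
  trans := by
    rintro _ ⟨a, ha, rfl⟩ _ ⟨b, hb, rfl⟩ ha1 hb1
    obtain ⟨g, hg, he⟩ := d.trans a ha b hb (fun h => ha1 (by rw [h, map_one]))
      (fun h => hb1 (by rw [h, map_one]))
    refine ⟨e g, ?_, by simp [← he]⟩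
    rw [norm_map_e, ← Subgroup.map_inf _ _ _ e.injective]
    exact (mem_map_e e).2 hg
  line K hK h4 := by
    obtain ⟨L, rfl⟩ := exists_map_e e K
    rw [card_map_e] at h4
    obtain ⟨g, hg, h2⟩ := d.line L ((Subgroup.map_le_map_iff_of_injective e.injective).1 hK) h4
    refine ⟨e g, ?_, ?_⟩
    · rw [norm_map_e, ← Subgroup.map_inf _ _ _ e.injective]
      exact (mem_map_e e).2 hg
    · rw [← conj_map_e, ← Subgroup.map_inf _ _ _ e.injective, card_map_e, h2]
  elem_le K hK he := by
    obtain ⟨L, rfl⟩ := exists_map_e e K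
    rw [card_map_e]
    exact d.elem_le L ((Subgroup.map_le_map_iff_of_injective e.injective).1 hK)
      ((elem_map_e e 2 L).1 he)
  meet K hK he h16 := by
    obtain ⟨L, rfl⟩ := exists_map_e e K
    rw [norm_map_e, ← Subgroup.map_inf _ _ _ e.injective] at hK
    rw [card_map_e] at h16
    rw [← Subgroup.map_inf _ _ _ e.injective, card_map_e]
    exact d.meet L ((Subgroup.map_le_map_iff_of_injective e.injective).1 hK)
      ((elem_map_e e 2 L).1 he) h16

/-- The facts about the hexad subgroup of the automorphism group of the Mathieu group. -/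
theorem hexData : ∃ W : Subgroup (MulAut ↥Cfsg.Spor.M22), HexData (MulAut ↥Cfsg.Spor.M22)
    (MulAut.conj : ↥Cfsg.Spor.M22 →* MulAut ↥Cfsg.Spor.M22).range W :=
  ⟨_, map_innerGrp ▸ hexData_map autEquiv hexData_pairGrp⟩

end Cfsg.Agent.H85.AutM22
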