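import Cfsg.Agent.H85.JFour.AutM22.Three

/-!
The facts about the automorphism group of the Mathieu group on 22 points used in the local
analysis of groups of Janko-four type.
-/

set_option autoImplicit false

namespace Cfsg.Agent.H85.AutM22

open Cfsg Cfsg.Agent.H43.JFour Cfsg.Agent.H94.M24
open scoped Pointwise

attribute [local irreducible] baseR sylS sylP innerGrp

lemma unique_index {K : Subgroup ↥pairGrp} (hK : K.index = 2) : K = innerGrp := by
  haveI := simple_innerGrp
  haveI : K.Normal := Subgroup.normal_of_index_eq_two hK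
  haveI : (K.subgroupOf innerGrp).Normal := inferInstance
  have hle : innerGrp ≤ K := by
    rcases IsSimpleGroup.eq_bot_or_eq_top_of_normal (K.subgroupOf innerGrp) inferInstance with h | h
    · exfalso
      have hd : (K.subgroupOf innerGrp).index ∣ K.index := Subgroup.relIndex_dvd_index_of_normal K _
      rw [h, Subgroup.index_bot, card_innerGrp, hK] at hd
      exact absurd (Nat.le_of_dvd (by norm_num) hd) (by norm_num)
    · exact Subgroup.subgroupOf_eq_top.1 h
  refine (Subgroup.eq_of_le_of_card_ge hle ?_).symm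
  have h1 := K.card_mul_index
  rw [hK, card_pairGrp] at h1
  rw [card_innerGrp]
  omega

/-- Everything about `baseR` transfers to every subgroup of its kind. -/
lemma exists_conj_R {R R' : Subgroup ↥pairGrp} (h : IsR R) (h' : IsR R') :
    ∃ g : ↥pairGrp, R.map (MulAut.conj g).toMonoidHom = R' := by
  obtain ⟨a, rfl⟩ := exists_conj_baseR h
  obtain ⟨b, rfl⟩ := exists_conj_baseR h'
  exact ⟨b * a⁻¹, by rw [map_conj_conj, inv_mul_cancel_right]⟩

lemma isR_conj {R : Subgroup ↥pairGrp} (h : IsR R) (g : ↥pairGrp) :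
    IsR (R.map (MulAut.conj g).toMonoidHom) :=
  (isR_map_e (MulAut.conj g) R).2 h

lemma six_trans_t3 {R : Subgroup ↥pairGrp} (h : IsR R)
    (hn : el t3 ∈ Subgroup.normalizer (R : Set ↥pairGrp)) :
    ∃ k : ↥pairGrp, Commute k (el t3) ∧ baseR.map (MulAut.conj k).toMonoidHom = R := by
  obtain ⟨k, hk, e⟩ := six_set h hn
  exact ⟨el k, (six_facts.1 k hk).2, e⟩

theorem autData_pairGrp : AutData ↥pairGrp innerGrp where
  card := card_pairGrp
  index := index_innerGrp
  unique_index _ := unique_index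
  simple := simple_innerGrp
  noncomm := noncomm_innerGrp
  elem_le _ := elem_le
  cent_R R hR := by
    obtain ⟨g, rfl⟩ := exists_conj_baseR hR
    rw [cent_map_e (MulAut.conj g) baseR, cent_baseR]
  invol a ha b hb oa ob := by
    obtain ⟨g, hg, e⟩ := innerInv_conj ha oa
    obtain ⟨h, hh, e'⟩ := innerInv_conj hb ob
    refine ⟨h⁻¹ * g, mul_mem (inv_mem hh) hg, ?_⟩
    calc h⁻¹ * g * a * (h⁻¹ * g)⁻¹ = h⁻¹ * (g * a * g⁻¹) * h := by group
      _ = b := by rw [e, ← e']; group
  syl_exp P a ha := by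
    obtain ⟨g, hg⟩ := exists_conj_sylP P
    rw [← SetLike.mem_coe] at ha
    have hm : a ∈ (P : Subgroup ↥pairGrp) := ha
    rw [← hg] at hm
    obtain ⟨k, hk, rfl⟩ := hm
    obtain ⟨t, ht, rfl⟩ := mem_sylP.1 hk
    rw [← map_pow, three_cube ht, map_one]
  syl_norm P := by
    obtain ⟨g, hg⟩ := exists_conj_sylP P
    rw [← hg, norm_map_e (MulAut.conj g), card_map_e, card_norm_sylP]
  syl_trans P a ha b hb ha1 hb1 := by
    obtain ⟨g, hg⟩ := exists_conj_sylP P
    have hma : a ∈ (P : Subgroup ↥pairGrp) := ha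
    have hmb : b ∈ (P : Subgroup ↥pairGrp) := hb
    rw [← hg, mem_map_conj] at hma hmb
    have hne : ∀ x : ↥pairGrp, x ≠ 1 → g⁻¹ * x * g ≠ 1 := fun x hx e => by
      rw [← MulAut.conj_symm_apply, map_eq_one_iff _ (MulEquiv.injective _)] at e
      exact hx e
    obtain ⟨h, hh, e⟩ := trans_sylP hma hmb (hne a ha1) (hne b hb1)
    have hi : g * h * g⁻¹ ∈ innerGrp := innerGrp_normal.conj_mem h hh.1 g
    have hn : g * h * g⁻¹ ∈ Subgroup.normalizer ((P : Subgroup ↥pairGrp) : Set ↥pairGrp) := by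
      rw [← hg, norm_map_conj_mem, conj_inv_conj]
      exact hh.2
    refine ⟨g * h * g⁻¹, ⟨hi, hn⟩, ?_⟩
    calc g * h * g⁻¹ * a * (g * h * g⁻¹)⁻¹ = g * (h * (g⁻¹ * a * g) * h⁻¹) * g⁻¹ := by group
      _ = b := by rw [e]; group
  three_four := three_four
  R_exists := ⟨baseR, isR_baseR⟩
  R_conj _ _ := exists_conj_R
  R_index R hR := by
    obtain ⟨g, rfl⟩ := exists_conj_baseR hR
    rw [norm_map_e (MulAut.conj g), Subgroup.index_map_of_bijective (MulAut.conj g).bijective]
    exact index_normR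
  R_fix R hR := by
    obtain ⟨g, rfl⟩ := exists_conj_baseR hR
    rintro _ ⟨r, hr, rfl⟩ hf
    have h1 : r = 1 := fix_baseR hr fun h hh => by
      have h' := hf (MulAut.conj g h) (by
        rw [norm_map_e (MulAut.conj g)]
        exact (mem_map_e (MulAut.conj g)).2 hh)
      rw [MulEquiv.coe_toMonoidHom, ← map_inv, ← map_mul, ← map_mul] at h'
      exact (MulAut.conj g).injective h'
    rw [h1, map_one]
  R_six x hx := by
    obtain ⟨g, rfl⟩ := exists_conj_t3 hx
    rw [← six_card]
    refine (Nat.card_eq_of_bijective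
      (fun R : {R : Subgroup ↥pairGrp //
          IsR R ∧ el t3 ∈ Subgroup.normalizer (R : Set ↥pairGrp)} =>
        (⟨R.1.map (MulAut.conj g).toMonoidHom, isR_conj R.2.1 g, by
          rw [norm_map_conj_mem, conj_inv_conj]; exact R.2.2⟩ :
          {R : Subgroup ↥pairGrp //
            IsR R ∧ g * el t3 * g⁻¹ ∈ Subgroup.normalizer (R : Set ↥pairGrp)}))
      ⟨fun R R' h => Subtype.ext (Subgroup.map_injective (MulAut.conj g).injective
        (congrArg Subtype.val h)), fun R => ?_⟩).symm
    refine ⟨⟨R.1.map (MulAut.conj g⁻¹).toMonoidHom, isR_conj R.2.1 g⁻¹, ?_⟩, Subtype.ext ?_⟩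
    · rw [norm_map_conj_mem, inv_inv]
      exact R.2.2
    · show (R.1.map (MulAut.conj g⁻¹).toMonoidHom).map (MulAut.conj g).toMonoidHom = R.1
      rw [map_conj_conj, mul_inv_cancel, map_conj_one]
  R_six_trans x hx R R' hR hR' hn hn' := by
    obtain ⟨g, rfl⟩ := exists_conj_t3 hx
    have key : ∀ S : Subgroup ↥pairGrp, IsR S →
        g * el t3 * g⁻¹ ∈ Subgroup.normalizer (S : Set ↥pairGrp) →
        ∃ k : ↥pairGrp, Commute k (el t3) ∧ baseR.map (MulAut.conj (g * k)).toMonoidHom = S := by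
      intro S hS hSn
      obtain ⟨k, hc, e⟩ := six_trans_t3 (isR_conj hS g⁻¹)
        (by rw [norm_map_conj_mem, inv_inv]; exact hSn)
      exact ⟨k, hc, by rw [← map_conj_conj, e, map_conj_conj, mul_inv_cancel, map_conj_one]⟩
    obtain ⟨k, hk, e⟩ := key R hR hn
    obtain ⟨k', hk', e'⟩ := key R' hR' hn'
    refine ⟨g * (k' * k⁻¹) * g⁻¹, ?_, ?_⟩
    · exact (hk'.mul_left hk.inv_left).map (MulAut.conj g)
    · rw [← e, ← e', map_conj_conj]
      congr 3
      group
  R_three R hR x hx hn r hr hc := by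
    obtain ⟨g, rfl⟩ := exists_conj_baseR hR
    obtain ⟨⟨s, hs, rfl⟩, hri⟩ := hr
    have hsi : s ∈ innerGrp := by
      have h := innerGrp_normal.conj_mem _ hri g⁻¹
      rwa [inv_inv, MulEquiv.coe_toMonoidHom, MulAut.conj_apply, conj_inv_conj] at h
    rw [norm_map_conj_mem] at hn
    have h1 : s = 1 := by
      refine three_baseR (x := g⁻¹ * x * g) hn ?_ hs hsi ?_
      · rw [← MulAut.conj_symm_apply, MulEquiv.orderOf_eq]; exact hx
      · have h := hc.map (MulAut.conj g⁻¹)
        rwa [MulAut.conj_apply, MulAut.conj_apply, inv_inv, MulEquiv.coe_toMonoidHom,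
          MulAut.conj_apply, conj_inv_conj] at h
    rw [h1, map_one]
  outer_three _ := outer_seven
  R_pair R hR := by
    obtain ⟨g, rfl⟩ := exists_conj_baseR hR
    obtain ⟨k, hk, h16, h8⟩ := pair_baseR
    refine ⟨(baseR.map (MulAut.conj k).toMonoidHom).map (MulAut.conj g).toMonoidHom,
      isR_conj (isR_conj isR_baseR k) g, fun h => hk ?_, ?_, ?_⟩
    · exact map_conj_eq_self_iff.1 (Subgroup.map_injective (MulAut.conj g).injective h)
    · rw [norm_map_e (MulAut.conj g), ← Subgroup.map_inf _ _ _ (MulAut.conj g).injective,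
        card_map_e, h16]
    · rw [norm_map_e (MulAut.conj g)]
      conv_lhs => rw [← map_conj_eq_self_iff.2
        (mem_norm_iff.2 fun k hk => innerGrp_normal.conj_mem k hk g : g ∈ Subgroup.normalizer
          (innerGrp : Set ↥pairGrp))]
      rw [← Subgroup.map_inf _ _ _ (MulAut.conj g).injective,
        ← Subgroup.map_inf _ _ _ (MulAut.conj g).injective, card_map_e, h8]

/-- The facts about the automorphism group of the Mathieu group on 22 points. -/
theorem autData : AutData (MulAut ↥Cfsg.Spor.M22)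
    (MulAut.conj : ↥Cfsg.Spor.M22 →* MulAut ↥Cfsg.Spor.M22).range :=
  map_innerGrp ▸ autData_map autEquiv autData_pairGrp

end Cfsg.Agent.H85.AutM22
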