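import Cfsg.Agent.H85.JFour.AutM22.Table
import Cfsg.Agent.H85.JFour.AutM22.Data
import Cfsg.Agent.S5599
import Cfsg.Agent.S2062

/-!
The stabiliser of the pair is the automorphism group of the Mathieu group on 22 points.
-/

set_option autoImplicit false

namespace Cfsg.Agent.H85.AutM22

open Cfsg Cfsg.Agent.Golay Cfsg.Agent.H94.M24
open scoped Pointwise

lemma ptSet_pairMask : ptSet pairMask = ({none, some 0} : Finset GolayPt) := by decide +kernel

lemma pairGrp_eq : pairGrp =
    Cfsg.M24 ⊓ MulAction.stabilizer (Equiv.Perm GolayPt) ({none, some 0} : Finset GolayPt) := by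
  ext σ
  rw [pairGrp, mem_stabGrp, Subgroup.mem_inf, MulAction.mem_stabilizer_iff, ← ptSet_pairMask]
  simp [ptSet_zero]

lemma M22_le_pairGrp : Spor.M22 ≤ pairGrp := fun σ hσ => by
  obtain ⟨h, h1, h2⟩ := S5599.mem_M22.1 hσ
  rw [pairGrp_eq]
  refine ⟨h, smul_eq_of_image (fun p hp => ?_) le_rfl⟩
  simp only [Finset.mem_insert, Finset.mem_singleton] at hp ⊢
  rcases hp with rfl | rfl
  exacts [.inl h1, .inr h2]

lemma w0_facts : ok w0 = true ∧ app w0 23 = 0 ∧ app w0 0 = 23 := by decide +kernel

lemma w0_swap : mkPerm w0 none = some 0 ∧ mkPerm w0 (some 0) = none := by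
  obtain ⟨h, h1, h2⟩ := w0_facts
  rw [← pt_values.1, ← pt_values.2, mkPerm_pt (ok_valid h) (by norm_num),
    mkPerm_pt (ok_valid h) (by norm_num), h1, h2]
  exact ⟨rfl, rfl⟩

lemma relIndex_M22 : Spor.M22.relIndex pairGrp = 2 := by
  rw [pairGrp_eq]
  exact (S5599.result _ (ok_mem w0_facts.1).1 w0_swap.1 w0_swap.2).1

/-- The inner part. -/
def innerGrp : Subgroup ↥pairGrp := Spor.M22.subgroupOf pairGrp

lemma index_innerGrp : innerGrp.index = 2 := relIndex_M22

instance innerGrp_normal : innerGrp.Normal := Subgroup.normal_of_index_eq_two index_innerGrp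

/-- The inner part is the Mathieu group. -/
noncomputable def innerEquiv : ↥innerGrp ≃* ↥Spor.M22 :=
  Subgroup.subgroupOfEquivOfLe M22_le_pairGrp

lemma card_innerGrp : Nat.card innerGrp = 443520 :=
  (Nat.card_congr innerEquiv.toEquiv).trans card_spor_M22

lemma card_pairGrp : Nat.card ↥pairGrp = 887040 := by
  rw [← innerGrp.card_mul_index, card_innerGrp, index_innerGrp]

lemma simple_innerGrp : IsSimpleGroup ↥innerGrp :=
  innerEquiv.isSimpleGroup_congr.2 isSimpleGroup_spor_M22

lemma noncomm_innerGrp : ¬ IsMulCommutative ↥innerGrp := by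
  intro h
  haveI := simple_innerGrp
  letI : CommGroup ↥innerGrp :=
    { (inferInstance : Group ↥innerGrp) with mul_comm := fun a b => mul_comm' a b }
  have hp : (Nat.card ↥innerGrp).Prime := IsSimpleGroup.prime_card
  rw [card_innerGrp] at hp
  norm_num at hp

lemma center_innerGrp : Subgroup.center ↥innerGrp = ⊥ := by
  haveI := simple_innerGrp
  refine (IsSimpleGroup.eq_bot_or_eq_top_of_normal _ inferInstance).resolve_right fun h => ?_
  exact noncomm_innerGrp ⟨⟨fun a b =>
    Subgroup.mem_center_iff.1 (h ▸ Subgroup.mem_top b : b ∈ Subgroup.center ↥innerGrp) a⟩⟩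

lemma mem_innerGrp {g : ↥pairGrp} : g ∈ innerGrp ↔ (g : Equiv.Perm GolayPt) none = none := by
  rw [innerGrp, Subgroup.mem_subgroupOf, S5599.mem_M22]
  refine ⟨fun h => h.2.1, fun h => ⟨g.2.1, h, ?_⟩⟩
  have hs : (g : Equiv.Perm GolayPt) • ({none, some 0} : Finset GolayPt) = {none, some 0} :=
    (pairGrp_eq.le g.2).2
  have h' : (g : Equiv.Perm GolayPt) (some 0) ∈ ({none, some 0} : Finset GolayPt) := by
    rw [← hs]
    exact Finset.smul_mem_smul_finset (by simp)
  simp only [Finset.mem_insert, Finset.mem_singleton] at h'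
  exact h'.resolve_left fun e => absurd ((g : Equiv.Perm GolayPt).injective (e.trans h.symm))
    (by simp)

/-- Conjugation. -/
noncomputable def toAut : ↥pairGrp →* MulAut ↥Spor.M22 :=
  (MulAut.congr innerEquiv).toMonoidHom.comp MulAut.conjNormal

lemma toAut_inner (h : ↥innerGrp) : toAut h = MulAut.conj (innerEquiv h) := by
  ext x
  obtain ⟨y, rfl⟩ := innerEquiv.surjective x
  have hy : MulAut.conjNormal (h : ↥pairGrp) y = h * y * h⁻¹ :=
    Subtype.ext (by simp [MulAut.conjNormal_apply])
  have e : toAut (h : ↥pairGrp) (innerEquiv y) =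
      innerEquiv (MulAut.conjNormal (h : ↥pairGrp) (innerEquiv.symm (innerEquiv y))) := rfl
  rw [e, MulEquiv.symm_apply_apply, hy, MulAut.conj_apply, map_mul, map_mul, map_inv]

lemma toAut_injective : Function.Injective toAut := by
  rw [injective_iff_map_eq_one]
  intro g hg
  have hc : ∀ x ∈ innerGrp, g * x * g⁻¹ = x := fun x hx => by
    have h := DFunLike.congr_fun hg (innerEquiv ⟨x, hx⟩)
    simp only [toAut, MonoidHom.comp_apply] at h
    have h' : MulAut.conjNormal g (⟨x, hx⟩ : ↥innerGrp) = ⟨x, hx⟩ := by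
      apply innerEquiv.injective
      simpa [MulAut.congr] using h
    exact congrArg Subtype.val h'
  have hgi : g ∈ innerGrp := by
    by_contra hn
    rw [mem_innerGrp] at hn
    have hs : (g : Equiv.Perm GolayPt) • ({none, some 0} : Finset GolayPt) = {none, some 0} :=
      (pairGrp_eq.le g.2).2
    have hm : ∀ p ∈ ({none, some 0} : Finset GolayPt),
        (g : Equiv.Perm GolayPt) p ∈ ({none, some 0} : Finset GolayPt) := fun p hp => by
      have := Finset.smul_mem_smul_finset (a := (g : Equiv.Perm GolayPt)) hp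
      rwa [hs] at this
    have b1 := hm none (by simp)
    have b2 := hm (some 0) (by simp)
    simp only [Finset.mem_insert, Finset.mem_singleton] at b1 b2
    have h1 := b1.resolve_left hn
    have h2 := b2.resolve_right fun e => absurd
      ((g : Equiv.Perm GolayPt).injective (h1.trans e.symm)) (by simp)
    refine (S5599.result _ g.2.1 h1 h2).2.2 ⟨1, one_mem _, fun x hx => ?_⟩
    have := congrArg Subtype.val (hc ⟨x, M22_le_pairGrp hx⟩ hx)
    simpa using this
  have hz : (⟨g, hgi⟩ : ↥innerGrp) ∈ Subgroup.center ↥innerGrp := by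
    rw [Subgroup.mem_center_iff]
    intro x
    exact Subtype.ext (mul_inv_eq_iff_eq_mul.1 (hc x x.2)).symm
  rw [center_innerGrp, Subgroup.mem_bot] at hz
  exact congrArg Subtype.val hz

lemma card_inn : Nat.card (Inn ↥Spor.M22) = 443520 := by
  rw [← Nat.card_congr (QuotientGroup.quotientKerEquivRange
    (MulAut.conj : ↥Spor.M22 →* MulAut ↥Spor.M22)).toEquiv]
  have hk : (MulAut.conj : ↥Spor.M22 →* MulAut ↥Spor.M22).ker = ⊥ := by
    rw [eq_bot_iff]
    intro z hz
    have hz' : innerEquiv.symm z ∈ Subgroup.center ↥innerGrp := by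
      rw [Subgroup.mem_center_iff]
      intro y
      apply innerEquiv.injective
      have h := DFunLike.congr_fun (MonoidHom.mem_ker.1 hz) (innerEquiv y)
      rw [MulAut.conj_apply, MulAut.one_apply, mul_inv_eq_iff_eq_mul] at h
      simp [h]
    rw [center_innerGrp, Subgroup.mem_bot] at hz'
    rw [Subgroup.mem_bot]
    simpa using congrArg innerEquiv hz'
  rw [hk, Nat.card_congr QuotientGroup.quotientBot.toEquiv, card_spor_M22]

lemma toAut_bijective : Function.Bijective toAut := by
  haveI : Finite (MulAut ↥Spor.M22) := Finite.of_injective _ DFunLike.coe_injective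
  rw [Nat.bijective_iff_injective_and_card]
  refine ⟨toAut_injective, ?_⟩
  rw [card_pairGrp, (Inn ↥Spor.M22).card_eq_card_quotient_mul_card_subgroup, card_inn]
  exact (congrArg (· * 443520) S2062.result).symm

/-- The identification. -/
noncomputable def autEquiv : ↥pairGrp ≃* MulAut ↥Spor.M22 :=
  MulEquiv.ofBijective toAut toAut_bijective

lemma map_innerGrp :
    innerGrp.map autEquiv.toMonoidHom = (MulAut.conj : ↥Spor.M22 →* MulAut ↥Spor.M22).range := by
  ext a
  constructor
  · rintro ⟨g, hg, rfl⟩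
    exact ⟨innerEquiv ⟨g, hg⟩, (toAut_inner ⟨g, hg⟩).symm⟩
  · rintro ⟨x, rfl⟩
    refine ⟨(innerEquiv.symm x : ↥innerGrp), (innerEquiv.symm x).2, ?_⟩
    exact (toAut_inner _).trans (by rw [MulEquiv.apply_symm_apply])

lemma isInner_iff {T : ℕ} (h : Good T) : el T ∈ innerGrp ↔ app T 23 = 23 := by
  rw [mem_innerGrp, h.app_eq, show idx none = 23 from rfl, ← pt_values.1,
    pt_inj ((validT_bijective h.valid).2 23 (by norm_num)) (by norm_num)]

end Cfsg.Agent.H85.AutM22
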