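import Cfsg.Agent.H85.JFour.AutM22.Transfer

/-!
General lemmas on finite groups used for the automorphism group of the Mathieu group.
-/

set_option autoImplicit false

namespace Cfsg.Agent.H85.AutM22

open Cfsg
open scoped Pointwise

variable {G : Type*} [Group G]

lemma map_conj_conj (K : Subgroup G) (g h : G) :
    (K.map (MulAut.conj g).toMonoidHom).map (MulAut.conj h).toMonoidHom =
      K.map (MulAut.conj (h * g)).toMonoidHom := by
  rw [Subgroup.map_map]
  congr 1
  ext x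
  simp [mul_assoc]

lemma map_conj_one (K : Subgroup G) : K.map (MulAut.conj (1 : G)).toMonoidHom = K := by
  have h : (MulAut.conj (1 : G)).toMonoidHom = MonoidHom.id G := by ext x; simp
  rw [h, Subgroup.map_id]

lemma mem_map_conj {K : Subgroup G} {g x : G} :
    x ∈ K.map (MulAut.conj g).toMonoidHom ↔ g⁻¹ * x * g ∈ K := by
  constructor
  · rintro ⟨k, hk, rfl⟩
    simpa [mul_assoc] using hk
  · exact fun h => ⟨_, h, by simp [mul_assoc]⟩

lemma mem_norm_iff [Finite G] {K : Subgroup G} {g : G} :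
    g ∈ Subgroup.normalizer (K : Set G) ↔ ∀ k ∈ K, g * k * g⁻¹ ∈ K := by
  refine ⟨fun h k hk => (Subgroup.mem_normalizer_iff.1 h k).1 hk, fun h => ?_⟩
  have hle : K.map (MulAut.conj g).toMonoidHom ≤ K := by
    rintro _ ⟨k, hk, rfl⟩
    exact h k hk
  have he := Subgroup.eq_of_le_of_card_ge hle (card_map_e (MulAut.conj g) K).ge
  refine Subgroup.mem_normalizer_iff.2 fun k => ⟨h k, fun hk => ?_⟩
  rw [← he, mem_map_conj] at hk
  simpa [mul_assoc] using hk

lemma mem_norm_closure [Finite G] {s : Set G} {g : G}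
    (h : ∀ k ∈ s, g * k * g⁻¹ ∈ Subgroup.closure s) :
    g ∈ Subgroup.normalizer (Subgroup.closure s : Set G) := by
  refine mem_norm_iff.2 fun k hk => ?_
  have : Subgroup.closure s ≤ (Subgroup.closure s).comap (MulAut.conj g).toMonoidHom :=
    (Subgroup.closure_le _).2 h
  exact this hk

lemma norm_map_conj_mem {K : Subgroup G} {g x : G} :
    x ∈ Subgroup.normalizer ((K.map (MulAut.conj g).toMonoidHom : Subgroup G) : Set G) ↔
      g⁻¹ * x * g ∈ Subgroup.normalizer (K : Set G) := by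
  rw [norm_map_e (MulAut.conj g) K]
  exact mem_map_conj

lemma map_conj_eq_self_iff [Finite G] {K : Subgroup G} {g : G} :
    K.map (MulAut.conj g).toMonoidHom = K ↔ g ∈ Subgroup.normalizer (K : Set G) := by
  refine ⟨fun h => mem_norm_iff.2 fun k hk => h ▸ ⟨k, hk, rfl⟩, fun h => ?_⟩
  refine Subgroup.eq_of_le_of_card_ge ?_ (card_map_e (MulAut.conj g) K).ge
  rintro _ ⟨k, hk, rfl⟩
  exact mem_norm_iff.1 h k hk

lemma exists_conj_zpowers [Finite G] {p : ℕ} [hp : Fact p.Prime] {N : Subgroup G}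
    (hN : ¬ p ^ 2 ∣ Nat.card N) {x y : G} (hx : x ∈ N) (hy : y ∈ N) (ox : orderOf x = p)
    (oy : orderOf y = p) : ∃ g ∈ N, y ∈ Subgroup.zpowers (g * x * g⁻¹) := by
  have key : ∀ z : ↥N, orderOf z = p →
      ∃ P : Sylow p ↥N, (P : Subgroup ↥N) = Subgroup.zpowers z := by
    intro z hz
    have hzp : IsPGroup p (Subgroup.zpowers z) :=
      IsPGroup.of_card (n := 1) (by rw [Nat.card_zpowers, hz, pow_one])
    obtain ⟨P, hP⟩ := hzp.exists_le_sylow
    refine ⟨P, (Subgroup.eq_of_le_of_card_ge hP ?_).symm⟩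
    rw [Nat.card_zpowers, hz, P.card_eq_multiplicity]
    refine (Nat.pow_le_pow_right hp.out.pos ?_).trans_eq (pow_one p)
    by_contra hlt
    exact hN ((hp.out.pow_dvd_iff_le_factorization Nat.card_pos.ne').2 (not_le.1 hlt))
  obtain ⟨P, hP⟩ := key ⟨x, hx⟩ (by rw [← orderOf_injective N.subtype N.subtype_injective]; exact ox)
  obtain ⟨Q, hQ⟩ := key ⟨y, hy⟩ (by rw [← orderOf_injective N.subtype N.subtype_injective]; exact oy)
  obtain ⟨g, hg⟩ := MulAction.exists_smul_eq ↥N P Q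
  have hy' : (⟨y, hy⟩ : ↥N) ∈ ((g • P : Sylow p ↥N) : Subgroup ↥N) := by
    rw [hg, hQ]; exact Subgroup.mem_zpowers _
  rw [Sylow.coe_subgroup_smul, Subgroup.mem_smul_pointwise_iff_exists] at hy'
  obtain ⟨z, hz, he⟩ := hy'
  rw [hP] at hz
  obtain ⟨k, rfl⟩ := hz
  refine ⟨g, g.2, k, ?_⟩
  have := congrArg Subtype.val he
  simp only [MulAut.smul_def, MulAut.conj_apply, Subgroup.coe_mul, Subgroup.coe_inv,
    Subgroup.coe_zpow] at this
  exact (conj_zpow).trans this

lemma conj_inv_conj {g x : G} : g⁻¹ * (g * x * g⁻¹) * g = x := by group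

end Cfsg.Agent.H85.AutM22
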