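import Cfsg.Agent.H85.JFour.AutM22.ChkSylow
import Cfsg.Agent.H85.JFour.AutM22.Model
import Cfsg.Agent.H85.JFour.AutM22.Prelim

/-!
Elementary abelian 2-subgroups of the stabiliser of the pair.
-/

set_option autoImplicit false

namespace Cfsg.Agent.H85.AutM22

open Cfsg Cfsg.Agent.Golay Cfsg.Agent.H94.M24 Cfsg.Agent.H43.JFour
open scoped Pointwise

lemma good_of_genOK {gens L par : List ℕ} (h : genOK gens L par = true) :
    (∀ t ∈ gens, Good t) ∧ (∀ t ∈ L, Good t) ∧ L.getD 0 0 = idTblVal := by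
  simp only [genOK, Bool.and_eq_true, List.all_eq_true, beq_iff_eq] at h
  exact ⟨fun t ht => good_ok (h.1.1.1.1.1 t ht), fun t ht => good_ok (h.1.1.1.1.2 t ht),
    h.1.1.1.2⟩

lemma Good.el_eq_one {T : ℕ} (h : Good T) : el T = 1 ↔ T = idTblVal := by
  refine ⟨fun e => h.inj good_id (e.trans el_id.symm), ?_⟩
  rintro rfl
  exact el_id

lemma card_of_list {K : Subgroup ↥pairGrp} {L : List ℕ} (hn : L.Nodup) (hg : ∀ t ∈ L, Good t)
    (h : ∀ g, g ∈ K ↔ ∃ t ∈ L, el t = g) : Nat.card K = L.length := by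
  rw [← List.toFinset_card_of_nodup hn, ← Nat.card_eq_finsetCard]
  refine (Nat.card_eq_of_bijective
    (fun t => ⟨el t.1, (h _).2 ⟨t.1, List.mem_toFinset.1 t.2, rfl⟩⟩)
    ⟨fun a b hab => Subtype.ext ((hg _ (List.mem_toFinset.1 a.2)).inj
      (hg _ (List.mem_toFinset.1 b.2)) (congrArg Subtype.val hab)), fun g => ?_⟩).symm
  obtain ⟨t, ht, he⟩ := (h g.1).1 g.2
  exact ⟨⟨t, List.mem_toFinset.2 ht⟩, Subtype.ext he⟩

/-- The Sylow 2-subgroup. -/
noncomputable def sylS : Subgroup ↥pairGrp := genGrp sGens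

/-- The subgroup of order 32. -/
noncomputable def baseR : Subgroup ↥pairGrp := genGrp rGens

lemma mem_sylS {g : ↥pairGrp} : g ∈ sylS ↔ ∃ t ∈ sList, el t = g := mem_genGrp sList_ok

lemma mem_baseR {g : ↥pairGrp} : g ∈ baseR ↔ ∃ t ∈ rList, el t = g := mem_genGrp rList_ok

lemma good_sList {t : ℕ} (h : t ∈ sList) : Good t := (good_of_genOK sList_ok).2.1 t h

lemma good_rList {t : ℕ} (h : t ∈ rList) : Good t := (good_of_genOK rList_ok).2.1 t h

lemma good_rGens {t : ℕ} (h : t ∈ rGens) : Good t := (good_of_genOK rList_ok).1 t h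

lemma good_sGens {t : ℕ} (h : t ∈ sGens) : Good t := (good_of_genOK sList_ok).1 t h

lemma card_sylS : Nat.card sylS = 256 := by
  rw [sylS, card_genGrp sList_ok sList_facts.2, sList_facts.1]

lemma card_baseR : Nat.card baseR = 32 := by
  rw [baseR, card_genGrp rList_ok rList_facts.2, rList_facts.1]

lemma rTest_facts :
    (∀ t ∈ rList, t = idTblVal ∨ ∃ i ∈ bitsOf rMask, invList.getD i 0 = t) ∧
    (∀ i ∈ bitsOf rMask, invList.getD i 0 ∈ rList) ∧
    (∀ t ∈ rList, tblMul t t = idTblVal ∧ ∀ g ∈ rGens, tblMul t g = tblMul g t) ∧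
    (∀ t ∈ rList, t ∈ sList) := by
  have h := rTest_ok
  simp only [rTest, Bool.and_eq_true, List.all_eq_true, List.any_eq_true, Bool.or_eq_true,
    beq_iff_eq, List.contains_iff_mem] at h
  exact ⟨h.1.1.1, h.1.1.2, h.1.2, h.2⟩

lemma baseR_le : baseR ≤ sylS := by
  intro g hg
  obtain ⟨t, ht, rfl⟩ := mem_baseR.1 hg
  exact mem_sylS.2 ⟨t, rTest_facts.2.2.2 t ht, rfl⟩

lemma isR_baseR : IsR baseR := by
  refine ⟨⟨⟨⟨fun a b => ?_⟩⟩, fun a ha => ?_⟩, card_baseR⟩
  · have hle : baseR ≤ Subgroup.centralizer (baseR : Set ↥pairGrp) := by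
      intro x hx
      obtain ⟨t, ht, rfl⟩ := mem_baseR.1 hx
      rw [Subgroup.mem_centralizer_iff]
      intro y hy
      have hy' : y ∈ Subgroup.closure {g | ∃ u ∈ rGens, el u = g} := hy
      induction hy' using Subgroup.closure_induction with
      | mem z hz =>
        obtain ⟨u, hu, rfl⟩ := hz
        exact (((good_rList ht).comm_iff (good_rGens hu)).1
          ((rTest_facts.2.2.1 t ht).2 u hu)).symm
      | one => simp
      | mul z w hz hw ihz ihw =>
        exact (Commute.mul_left (ihz hz) (ihw hw)).eq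
      | inv z hz ih => exact (Commute.inv_left (ih hz)).eq
    exact Subtype.ext (Subgroup.mem_centralizer_iff.1 (hle b.2) a a.2)
  · obtain ⟨t, ht, rfl⟩ := mem_baseR.1 ha
    rw [pow_two, ← (good_rList ht).el_mul (good_rList ht), (rTest_facts.2.2.1 t ht).1, el_id]

/-! ### The two-part -/

lemma eq_sylS {Q : Subgroup ↥pairGrp} (hQ : IsPGroup 2 Q) (h : sylS ≤ Q) : Q = sylS := by
  refine (Subgroup.eq_of_le_of_card_ge h ?_).symm
  obtain ⟨k, hk⟩ := IsPGroup.iff_card.1 hQ
  have hd : Nat.card Q ∣ 887040 := card_pairGrp ▸ Q.card_subgroup_dvd_card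
  rw [card_sylS, hk]
  rw [hk] at hd
  by_contra hlt
  have h9 : 2 ^ 9 ∣ 2 ^ k := pow_dvd_pow 2 (by
    by_contra h9
    exact hlt (le_trans (Nat.pow_le_pow_right (by norm_num) (by omega : k ≤ 8)) (by norm_num)))
  exact absurd (h9.trans hd) (by decide +kernel)

lemma isPGroup_sylS : IsPGroup 2 sylS := IsPGroup.of_card (n := 8) (by rw [card_sylS]; norm_num)

lemma exists_conj_le {B : Subgroup ↥pairGrp} (hB : IsPGroup 2 B) :
    ∃ g : ↥pairGrp, B.map (MulAut.conj g).toMonoidHom ≤ sylS := by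
  haveI : Fact (Nat.Prime 2) := ⟨Nat.prime_two⟩
  obtain ⟨P, hP⟩ := hB.exists_le_sylow
  obtain ⟨Q, hQ⟩ := isPGroup_sylS.exists_le_sylow
  obtain ⟨g, hg⟩ := MulAction.exists_smul_eq ↥pairGrp P Q
  refine ⟨g, le_trans (Subgroup.map_mono hP) ?_⟩
  rw [← eq_sylS Q.isPGroup' hQ, ← hg]
  rfl

/-! ### Elementary subgroups inside the two-part -/

/-- The element of an index of the involution list. -/
noncomputable def inv' (i : ℕ) : ↥pairGrp := el (invList.getD i 0)

lemma invList_facts :
    (∀ t ∈ invList, Good t ∧ el t ≠ 1) ∧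
    (∀ t ∈ sList, tblMul t t = idTblVal → t = idTblVal ∨ t ∈ invList) := by
  have h := invTest_ok
  simp only [invTest, Bool.and_eq_true, List.all_eq_true, Bool.or_eq_true, Bool.not_eq_true',
    beq_iff_eq, beq_eq_false_iff_ne, List.contains_iff_mem] at h
  refine ⟨fun t ht => ?_, fun t ht e => (h.2 t ht).resolve_right fun h' => h' e⟩
  have hg := good_sList (h.1 t ht).1.1
  exact ⟨hg, fun e => (h.1 t ht).1.2 (hg.el_eq_one.1 e)⟩

lemma getD_invList_mem {i : ℕ} (hi : i < invList.length) : invList.getD i 0 ∈ invList := by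
  rw [List.getD_eq_getElem _ _ hi]; exact List.getElem_mem _

lemma prod_spec {i j : ℕ} (hi : i < invList.length) (hj : j < invList.length) (hij : i ≠ j)
    (hc : Commute (inv' i) (inv' j)) :
    prodAt i j < invList.length ∧ inv' (prodAt i j) = inv' i * inv' j := by
  have h := prodTest_ok
  simp only [prodTest, List.all_eq_true, List.mem_range, Bool.or_eq_true, beq_iff_eq,
    forceN_eq] at h
  have h' := (h i hi j hj).resolve_left hij
  have gi := (invList_facts.1 _ (getD_invList_mem hi)).1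
  have gj := (invList_facts.1 _ (getD_invList_mem hj)).1
  rw [if_pos ((gi.comm_iff gj).2 hc.eq), Bool.and_eq_true, decide_eq_true_eq, beq_iff_eq] at h'
  exact ⟨h'.1, by rw [inv', h'.2, gi.el_mul gj]; rfl⟩

lemma mem_bitsOf {m i : ℕ} : i ∈ bitsOf m ↔ i < invList.length ∧ m.testBit i = true := by
  rw [bitsOf, List.mem_filter, List.mem_range]

lemma invList_length : invList.length < 255 := by decide +kernel

lemma testBit_extMask (m j row : ℕ) (b : List ℕ) (q : ℕ) :
    (extMask m j row b).testBit q = true ↔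
      m.testBit q = true ∨ j = q ∨ ∃ i ∈ b, (row >>> (8 * i)) &&& 255 = q := by
  have h : ∀ acc : ℕ,
      (b.foldl (fun a i => a ||| 1 <<< ((row >>> (8 * i)) &&& 255)) acc).testBit q = true ↔
        (acc.testBit q = true ∨ ∃ i ∈ b, (row >>> (8 * i)) &&& 255 = q) := by
    induction b with
    | nil => simp
    | cons a t ih =>
      intro acc
      rw [List.foldl_cons, ih, Nat.testBit_or, Bool.or_eq_true, Nat.one_shiftLeft,
        Nat.testBit_two_pow, decide_eq_true_eq]
      simp only [List.mem_cons, exists_eq_or_imp]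
      tauto
  rw [extMask, h, Nat.testBit_or, Bool.or_eq_true, Nat.one_shiftLeft, Nat.testBit_two_pow,
    decide_eq_true_eq, or_assoc]

lemma elem_mask {B : Subgroup ↥pairGrp} (hB : IsElementaryAbelian 2 B) :
    ∀ F : Finset ℕ, (∀ i ∈ F, i < invList.length ∧ inv' i ∈ B) →
      ∃ m ∈ elemMasks, (∀ i ∈ F, m.testBit i = true) ∧ ∀ i ∈ bitsOf m, inv' i ∈ B := by
  have hz := maskTest_ok
  simp only [maskTest, Bool.and_eq_true, List.all_eq_true, List.contains_iff_mem, forceL_eq,
    List.mem_range, Bool.or_eq_true, forceN_eq, List.any_eq_true, beq_iff_eq] at hz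
  intro F
  induction F using Finset.induction_on with
  | empty =>
    refine fun _ => ⟨0, hz.1, fun i hi => absurd hi (Finset.notMem_empty i), fun i hi => ?_⟩
    rw [mem_bitsOf, Nat.zero_testBit] at hi
    exact absurd hi.2 Bool.false_ne_true
  | insert j F hj ih =>
    intro hF
    obtain ⟨m, hm, hFm, hmB⟩ := ih fun i hi => hF i (Finset.mem_insert_of_mem hi)
    obtain ⟨hjl, hjB⟩ := hF j (Finset.mem_insert_self j F)
    by_cases hjm : m.testBit j = true
    · refine ⟨m, hm, fun i hi => ?_, hmB⟩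
      rcases Finset.mem_insert.1 hi with rfl | hi
      exacts [hjm, hFm i hi]
    · have hp : ∀ i ∈ bitsOf m, prodAt j i < invList.length ∧
          inv' (prodAt j i) = inv' j * inv' i := fun i hi => by
        refine prod_spec hjl (mem_bitsOf.1 hi).1
          (fun e => hjm (e ▸ (mem_bitsOf.1 hi).2)) ?_
        have := congrArg Subtype.val
          (hB.1.is_comm.comm (⟨inv' j, hjB⟩ : B) ⟨inv' i, hmB i hi⟩)
        exact this
      rcases (hz.2 m hm).2 j hjl with h | ⟨i, hi, h⟩ | h
      · exact absurd h hjm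
      · exfalso
        have := (hp i hi).1
        rw [prodAt, h] at this
        exact absurd (this.trans invList_length) (lt_irrefl _)
      · refine ⟨_, h, fun i hi => ?_, fun i hi => ?_⟩
        · rw [testBit_extMask]
          rcases Finset.mem_insert.1 hi with rfl | hi
          exacts [.inr (.inl rfl), .inl (hFm i hi)]
        · rw [mem_bitsOf, testBit_extMask] at hi
          obtain ⟨hil, hi | rfl | ⟨k, hk, rfl⟩⟩ := hi
          · exact hmB i (mem_bitsOf.2 ⟨hil, hi⟩)
          · exact hjB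
          · rw [show (prodRows.getD j 0 >>> (8 * k) &&& 255) = prodAt j k from rfl, (hp k hk).2]
            exact mul_mem hjB (hmB k hk)

lemma exists_mask {B : Subgroup ↥pairGrp} (hB : IsElementaryAbelian 2 B) (hle : B ≤ sylS) :
    ∃ m ∈ elemMasks, (∀ i ∈ bitsOf m, inv' i ∈ B) ∧
      (B : Set ↥pairGrp) ⊆ ↑(insert 1 ((bitsOf m).toFinset.image inv')) ∧
      Nat.card B ≤ (bitsOf m).length + 1 := by
  classical
  obtain ⟨m, hm, hF, hmB⟩ := elem_mask hB ((Finset.range invList.length).filter fun i => inv' i ∈ B)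
    fun i hi => by simpa using hi
  have hsub : (B : Set ↥pairGrp) ⊆ ↑(insert 1 ((bitsOf m).toFinset.image inv')) := by
    intro b hb
    obtain ⟨t, ht, rfl⟩ := mem_sylS.1 (hle hb)
    have hg := good_sList ht
    have h2 : tblMul t t = idTblVal := by
      refine (hg.mul hg).el_eq_one.1 ?_
      rw [hg.el_mul hg, ← pow_two]
      exact hB.2 _ hb
    simp only [Finset.coe_insert, Set.mem_insert_iff, Finset.coe_image, Set.mem_image]
    rcases invList_facts.2 t ht h2 with rfl | ht'
    · exact .inl el_id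
    · obtain ⟨i, hi, rfl⟩ := List.getElem_of_mem ht'
      have e : inv' i = el invList[i] := by rw [inv', List.getD_eq_getElem _ _ hi]
      refine .inr ⟨i, ?_, e⟩
      rw [Finset.mem_coe, List.mem_toFinset, mem_bitsOf]
      refine ⟨hi, hF i ?_⟩
      rw [Finset.mem_filter, Finset.mem_range, e]
      exact ⟨hi, hb⟩
  refine ⟨m, hm, hmB, hsub, (Set.ncard_le_ncard hsub).trans ?_⟩
  rw [Set.ncard_coe_finset]
  exact (Finset.card_insert_le _ _).trans
    (Nat.add_le_add_right (Finset.card_image_le.trans (List.toFinset_card_le _)) 1)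

lemma elem_in_sylS {B : Subgroup ↥pairGrp} (hB : IsElementaryAbelian 2 B) (hle : B ≤ sylS) :
    Nat.card B ≤ 32 ∧ (Nat.card B = 32 → B = baseR) := by
  classical
  obtain ⟨m, hm, hmB, hsub, hcard⟩ := exists_mask hB hle
  have hz := maskTest_ok
  simp only [maskTest, Bool.and_eq_true, List.all_eq_true, forceL_eq, Bool.or_eq_true,
    decide_eq_true_eq, beq_iff_eq] at hz
  refine ⟨?_, fun h32 => ?_⟩
  · rcases (hz.2 m hm).1 with h | h <;> omega
  · obtain ⟨-, rfl⟩ : (bitsOf m).length = 31 ∧ m = rMask := (hz.2 m hm).1.resolve_left (by omega)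
    refine Subgroup.eq_of_le_of_card_ge (fun b hb => ?_) (card_baseR.trans h32.symm).le
    have := hsub hb
    simp only [Finset.coe_insert, Set.mem_insert_iff, Finset.coe_image, Set.mem_image,
      List.coe_toFinset, Set.mem_setOf_eq] at this
    rcases this with rfl | ⟨i, hi, rfl⟩
    · exact one_mem _
    · exact mem_baseR.2 ⟨_, rTest_facts.2.1 i hi, rfl⟩

lemma isPGroup_elem {B : Subgroup ↥pairGrp} (hB : IsElementaryAbelian 2 B) : IsPGroup 2 B :=
  fun b => ⟨1, Subtype.ext (by simpa using hB.2 b b.2)⟩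

lemma elem_le {B : Subgroup ↥pairGrp} (hB : IsElementaryAbelian 2 B) : Nat.card B ≤ 32 := by
  obtain ⟨g, hg⟩ := exists_conj_le (isPGroup_elem hB)
  rw [← card_map_e (MulAut.conj g) B]
  exact (elem_in_sylS ((elem_map_e (MulAut.conj g) 2 B).2 hB) hg).1

lemma exists_conj_baseR {R : Subgroup ↥pairGrp} (hR : IsR R) :
    ∃ g : ↥pairGrp, baseR.map (MulAut.conj g).toMonoidHom = R := by
  obtain ⟨g, hg⟩ := exists_conj_le (isPGroup_elem hR.1)
  refine ⟨g⁻¹, ?_⟩
  rw [← (elem_in_sylS ((elem_map_e (MulAut.conj g) 2 R).2 hR.1) hg).2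
      ((card_map_e (MulAut.conj g) R).trans hR.2),
    map_conj_conj, inv_mul_cancel, map_conj_one]

end Cfsg.Agent.H85.AutM22
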