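import Cfsg.Agent.H85.JFour.AutM22.ChkNorm
import Cfsg.Agent.H85.JFour.AutM22.SylowTwo

/-!
The normaliser of the subgroup of order 32 is the stabiliser of a pair of points.
-/

set_option autoImplicit false

namespace Cfsg.Agent.H85.AutM22

open Cfsg Cfsg.Agent.Golay Cfsg.Agent.H94.M24 Cfsg.Agent.H43.JFour
open scoped Pointwise

attribute [local irreducible] tblMul mkTbl tblImg powT sList rList sGens rGens cosReps duadReps normList duadMasks

/-- The normaliser of the subgroup of order 32. -/
noncomputable def normR : Subgroup ↥pairGrp := Subgroup.normalizer (baseR : Set ↥pairGrp)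

/-- The pair {2, 3}. -/
def duad0 : Finset GolayPt := ptSet baseDuad

/-- The stabiliser of the pair {2, 3}. -/
noncomputable def stabD : Subgroup ↥pairGrp := MulAction.stabilizer ↥pairGrp duad0

lemma Good.smul_ptSet {T : ℕ} (h : Good T) (m : ℕ) : el T • ptSet m = ptSet (tblImg T m) := by
  rw [ptSet_tblImg h.valid, ← h.coe]
  rfl

lemma Good.mem_stabD_iff {T : ℕ} (h : Good T) :
    el T ∈ stabD ↔ tblImg T baseDuad = baseDuad := by
  rw [stabD, MulAction.mem_stabilizer_iff, duad0, h.smul_ptSet]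
  exact ⟨fun e => ptSet_injOn (tblImg_lt h.valid _) (by decide) e, fun e => by rw [e]⟩

lemma good_duadReps {t : ℕ} (h : t ∈ duadReps) : Good t :=
  good_ok (List.all_eq_true.1 duad_reps.1 t h)

/-- The listed images of the pair. -/
noncomputable def duadSet : Finset (Finset GolayPt) := duadMasks.toFinset.image ptSet

lemma duadMasks_lt {m : ℕ} (h : m ∈ duadMasks) : m < 2 ^ 24 := by
  rw [duadMasks, List.mem_map] at h
  obtain ⟨t, ht, rfl⟩ := h
  exact tblImg_lt (good_duadReps ht).valid _

lemma card_duadSet : duadSet.card = 231 := by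
  rw [duadSet, Finset.card_image_of_injOn, List.toFinset_card_of_nodup duad_reps.2.2.1,
    duad_reps.2.1]
  intro a ha b hb e
  simp only [Finset.mem_coe, List.mem_toFinset] at ha hb
  exact ptSet_injOn (duadMasks_lt ha) (duadMasks_lt hb) e

lemma duadSet_subset : (duadSet : Set (Finset GolayPt)) ⊆ MulAction.orbit ↥pairGrp duad0 := by
  intro D hD
  rw [duadSet, Finset.mem_coe, Finset.mem_image] at hD
  obtain ⟨m, hm, rfl⟩ := hD
  rw [List.mem_toFinset, duadMasks, List.mem_map] at hm
  obtain ⟨t, ht, rfl⟩ := hm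
  exact ⟨el t, (good_duadReps ht).smul_ptSet baseDuad⟩

lemma card_stabD_le : Nat.card stabD ≤ 3840 := by
  have h := stabD.card_mul_index
  rw [card_pairGrp, stabD, MulAction.index_stabilizer] at h
  have h231 : 231 ≤ (MulAction.orbit ↥pairGrp duad0).ncard := by
    rw [← card_duadSet, ← Set.ncard_coe_finset]
    exact Set.ncard_le_ncard duadSet_subset
  have := Nat.mul_le_mul_left (Nat.card stabD) h231
  rw [stabD, h] at this
  rw [stabD]
  omega

lemma rInner_facts :
    (∀ t ∈ rList, isInner t = true → app t 2 = 2 ∧ app t 3 = 3) ∧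
    (∀ i < 24, i ∈ [23, 0, 2, 3] ∨ ∃ t ∈ rList, isInner t = true ∧ app t i ≠ i) := by
  have h := rInner_fix
  simp only [rInner, List.all_eq_true, List.mem_filter, Bool.and_eq_true, beq_iff_eq,
    Bool.or_eq_true, List.contains_iff_mem, List.any_eq_true, List.mem_range, bne_iff_ne,
    and_assoc] at h
  exact ⟨fun t ht hi => h.1 t ⟨ht, hi⟩, h.2⟩

lemma Good.isInner_iff' {T : ℕ} (h : Good T) : isInner T = true ↔ el T ∈ innerGrp := by
  rw [isInner, beq_iff_eq, isInner_iff h]

lemma inner_fixes {g : ↥pairGrp} (hg : g ∈ innerGrp) :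
    (g : Equiv.Perm GolayPt) (pt 23) = pt 23 ∧ (g : Equiv.Perm GolayPt) (pt 0) = pt 0 := by
  rw [pt_values.1, pt_values.2]
  exact (S5599.mem_M22.1 hg).2

lemma normR_le_stabD : normR ≤ stabD := by
  intro g hg
  set σ : Equiv.Perm GolayPt := (g : Equiv.Perm GolayPt) with hσ
  let Fx : GolayPt → Prop := fun p =>
    ∀ r ∈ baseR, r ∈ innerGrp → (r : Equiv.Perm GolayPt) p = p
  have hFx : ∀ p, Fx p → idx p ∈ [23, 0, 2, 3] := by
    intro p hp
    refine (rInner_facts.2 (idx p) (idx_lt p)).resolve_right ?_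
    rintro ⟨t, ht, hti, hne⟩
    have := hp (el t) (mem_baseR.2 ⟨t, ht, rfl⟩) ((good_rList ht).isInner_iff'.1 hti)
    rw [(good_rList ht).app_eq] at this
    refine hne ?_
    have e := congrArg idx this
    rwa [idx_pt _ ((validT_bijective (good_rList ht).valid).2 _ (idx_lt p))] at e
  have hFx' : ∀ i ∈ [2, 3], Fx (pt i) := by
    intro i hi r hr hri
    obtain ⟨t, ht, rfl⟩ := mem_baseR.1 hr
    have := rInner_facts.1 t ht ((good_rList ht).isInner_iff'.2 hri)
    rw [(good_rList ht).coe]
    simp only [List.mem_cons, List.not_mem_nil, or_false] at hi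
    rcases hi with rfl | rfl
    · rw [mkPerm_pt (good_rList ht).valid (by norm_num), this.1]
    · rw [mkPerm_pt (good_rList ht).valid (by norm_num), this.2]
  have hstep : ∀ p, Fx p → Fx (σ p) := by
    intro p hp r hr hri
    have h1 : g⁻¹ * r * g⁻¹⁻¹ ∈ baseR := mem_norm_iff.1 (inv_mem hg) r hr
    have h2 : g⁻¹ * r * g⁻¹⁻¹ ∈ innerGrp := innerGrp_normal.conj_mem r hri g⁻¹
    have h3 := hp _ h1 h2
    simp only [inv_inv, Subgroup.coe_mul, Subgroup.coe_inv, Equiv.Perm.mul_apply,
      Equiv.Perm.coe_inv, Equiv.symm_apply_eq] at h3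
    exact h3
  have hpair : ∀ i ∈ [23, 0], idx (σ (pt i)) ∈ [23, 0] := by
    intro i hi
    have hm : σ (pt i) ∈ ({none, some 0} : Finset GolayPt) := by
      rw [← (pairGrp_eq.le g.2).2]
      refine Finset.smul_mem_smul_finset ?_
      simp only [List.mem_cons, List.not_mem_nil, or_false] at hi
      rcases hi with rfl | rfl <;> simp [pt_values.1, pt_values.2]
    simp only [Finset.mem_insert, Finset.mem_singleton] at hm
    rcases hm with e | e <;> rw [e] <;> decide
  have hduad : ∀ i ∈ [2, 3], σ (pt i) ∈ duad0 := by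
    intro i hi
    have hi' : i < 24 ∧ i ≠ 23 ∧ i ≠ 0 := by
      simp only [List.mem_cons, List.not_mem_nil, or_false] at hi; omega
    have h := hFx _ (hstep _ (hFx' i hi))
    have a := hpair 23 (by simp)
    have b := hpair 0 (by simp)
    simp only [List.mem_cons, List.not_mem_nil, or_false] at a b h
    have hab : idx (σ (pt 23)) ≠ idx (σ (pt 0)) := fun e =>
      absurd ((pt_inj (by norm_num) (by norm_num)).1 (σ.injective (idx_injective e))) (by norm_num)
    have ha : idx (σ (pt i)) ≠ idx (σ (pt 23)) := fun e =>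
      hi'.2.1 ((pt_inj hi'.1 (by norm_num)).1 (σ.injective (idx_injective e)))
    have hb : idx (σ (pt i)) ≠ idx (σ (pt 0)) := fun e =>
      hi'.2.2 ((pt_inj hi'.1 (by norm_num)).1 (σ.injective (idx_injective e)))
    rw [duad0, mem_ptSet]
    rcases (show idx (σ (pt i)) = 2 ∨ idx (σ (pt i)) = 3 by omega) with e | e <;> rw [e] <;> decide
  rw [stabD, MulAction.mem_stabilizer_iff]
  refine smul_eq_of_image (fun p hp => ?_) le_rfl
  rw [← pt_idx p]
  refine hduad _ ?_
  have hp' := mem_ptSet.1 hp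
  have hlt := idx_lt p
  have key : ∀ i < 24, baseDuad.testBit i = true → i ∈ [2, 3] := by decide +kernel
  exact key _ hlt hp'

lemma Good.mem_normR {T : ℕ} (h : Good T)
    (hc : ∀ r ∈ rGens, ∃ r' ∈ rList, carries T r r' = true) : el T ∈ normR := by
  refine mem_norm_closure ?_
  rintro _ ⟨r, hr, rfl⟩
  obtain ⟨r', hr', e⟩ := hc r hr
  rw [(h.carries_iff (good_rGens hr) (good_rList hr')).1 e]
  exact mem_baseR.2 ⟨r', hr', rfl⟩

lemma good_three_five : Good t3 ∧ Good t5 := by
  have h := duad_fix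
  simp only [List.all_eq_true, Bool.and_eq_true] at h
  exact ⟨good_ok (h t3 (by simp)).1, good_ok (h t5 (by simp)).1⟩

lemma good_cosReps {t : ℕ} (ht : t ∈ cosReps) : Good t := by
  have h := duad_fix
  simp only [List.all_eq_true, Bool.and_eq_true] at h
  exact good_ok (h t (by simp [ht])).1

lemma gens_normR :
    (∀ t ∈ sGens, el t ∈ normR) ∧ el t3 ∈ normR ∧ el t5 ∈ normR := by
  have h := norm_gens
  simp only [List.all_eq_true, List.any_eq_true] at h
  exact ⟨fun t ht => (good_sGens ht).mem_normR (h t (by simp [ht])),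
    good_three_five.1.mem_normR (h t3 (by simp)), good_three_five.2.mem_normR (h t5 (by simp))⟩

lemma sylS_le_normR : sylS ≤ normR := by
  refine (Subgroup.closure_le _).2 ?_
  rintro _ ⟨t, ht, rfl⟩
  exact gens_normR.1 t ht

lemma orderOf_t3 : orderOf (el t3) = 3 := by
  haveI : Fact (Nat.Prime 3) := ⟨Nat.prime_three⟩
  refine orderOf_eq_prime ?_ fun e => three_five.2.1 (good_three_five.1.el_eq_one.1 e)
  rw [← (good_three_five.1.pow 3).2, three_five.1, el_id]

lemma orderOf_t5 : orderOf (el t5) = 5 := by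
  haveI : Fact (Nat.Prime 5) := ⟨Nat.prime_five⟩
  refine orderOf_eq_prime ?_ fun e => three_five.2.2.2.1 (good_three_five.2.el_eq_one.1 e)
  rw [← (good_three_five.2.pow 5).2, three_five.2.2.1, el_id]

lemma card_normR : Nat.card normR = 3840 := by
  have h256 : 256 ∣ Nat.card normR := card_sylS ▸ Subgroup.card_dvd_of_le sylS_le_normR
  have h3 : 3 ∣ Nat.card normR := orderOf_t3 ▸ Subgroup.orderOf_dvd_natCard _ gens_normR.2.1
  have h5 : 5 ∣ Nat.card normR := orderOf_t5 ▸ Subgroup.orderOf_dvd_natCard _ gens_normR.2.2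
  have hd : 3840 ∣ Nat.card normR :=
    Nat.Coprime.mul_dvd_of_dvd_of_dvd (show Nat.Coprime (256 * 3) 5 by norm_num)
      (Nat.Coprime.mul_dvd_of_dvd_of_dvd (by norm_num) h256 h3) h5
  refine le_antisymm ?_ (Nat.le_of_dvd Nat.card_pos hd)
  exact (Subgroup.card_le_of_le normR_le_stabD).trans card_stabD_le

lemma normR_eq : normR = stabD :=
  Subgroup.eq_of_le_of_card_ge normR_le_stabD (card_normR.symm ▸ card_stabD_le)

lemma mem_normR_iff {g : ↥pairGrp} : g ∈ normR ↔ g • duad0 = duad0 := by
  rw [normR_eq, stabD, MulAction.mem_stabilizer_iff]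

lemma index_normR : normR.index = 231 := by
  have h := normR.card_mul_index
  rw [card_normR, card_pairGrp] at h
  omega

lemma orbit_eq : MulAction.orbit ↥pairGrp duad0 = (duadSet : Set (Finset GolayPt)) := by
  refine (Set.eq_of_subset_of_ncard_le duadSet_subset ?_ (Set.toFinite _)).symm
  rw [Set.ncard_coe_finset, card_duadSet, ← MulAction.index_stabilizer, ← stabD, ← normR_eq,
    index_normR]

lemma normList_mem {L : List ℕ} (hL : L ∈ normList) {t : ℕ} (ht : t ∈ L) :
    ∃ c ∈ cosReps, ∃ s ∈ sList, t = tblMul s c := by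
  rw [normList, List.mem_map] at hL
  obtain ⟨c, hc, rfl⟩ := hL
  rw [List.mem_map] at ht
  obtain ⟨s, hs, rfl⟩ := ht
  exact ⟨c, hc, s, hs, rfl⟩

lemma good_normList {L : List ℕ} (hL : L ∈ normList) {t : ℕ} (ht : t ∈ L) : Good t := by
  obtain ⟨c, hc, s, hs, rfl⟩ := normList_mem hL ht
  exact (good_sList hs).mul (good_cosReps hc)

lemma normR_list {g : ↥pairGrp} (hg : g ∈ normR) :
    ∃ L ∈ normList, ∃ t ∈ L, el t = g := by
  obtain ⟨hlen, hd⟩ := cosets_distinct
  simp only [List.all_eq_true, List.mem_range, Bool.or_eq_true, beq_iff_eq, Bool.not_eq_true',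
    List.contains_iff_mem, Bool.eq_false_iff, ne_eq] at hd
  have hlc : cosReps.length = 15 := by rw [← hlen, normList, List.length_map]
  have hmem : ∀ i : Fin 15, cosReps.getD i.1 0 ∈ cosReps := fun i => by
    rw [List.getD_eq_getElem _ _ (by rw [hlc]; exact i.2)]; exact List.getElem_mem _
  have hcN : ∀ i : Fin 15, el (cosReps.getD i.1 0) ∈ normR := fun i => by
    rw [normR_eq, (good_cosReps (hmem i)).mem_stabD_iff]
    have h := duad_fix
    simp only [List.all_eq_true, Bool.and_eq_true, beq_iff_eq] at h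
    exact (h _ (List.mem_append_left _ (List.mem_append_left _ (List.mem_append_right _ (hmem i))))).2
  let f : Fin 15 × ↥sylS → ↥normR := fun x =>
    ⟨x.2.1 * el (cosReps.getD x.1.1 0), mul_mem (sylS_le_normR x.2.2) (hcN x.1)⟩
  have hinj : Function.Injective f := by
    rintro ⟨i, s⟩ ⟨j, s'⟩ h
    have h' : s.1 * el (cosReps.getD i.1 0) = s'.1 * el (cosReps.getD j.1 0) :=
      congrArg Subtype.val h
    have hij : i = j := by
      by_contra hne
      obtain ⟨t, ht, he⟩ := mem_sylS.1 (mul_mem (inv_mem s.2) s'.2)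
      have e : el (cosReps.getD i.1 0) = el (tblMul t (cosReps.getD j.1 0)) := by
        rw [(good_sList ht).el_mul (good_cosReps (hmem j)), he, mul_assoc, ← h',
          inv_mul_cancel_left]
      have e' := (good_cosReps (hmem i)).inj ((good_sList ht).mul (good_cosReps (hmem j))) e
      refine (hd i.1 i.2 j.1 j.2).resolve_left (fun e => hne (Fin.ext e)) ?_
      rw [normList, List.getD_eq_getElem _ _ (by rw [List.length_map, hlc]; exact j.2),
        List.getElem_map, ← List.getD_eq_getElem cosReps 0, e']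
      exact List.mem_map.2 ⟨t, ht, rfl⟩
    subst hij
    exact Prod.ext rfl (Subtype.ext (mul_right_cancel h'))
  obtain ⟨⟨i, s⟩, hx⟩ := ((Nat.bijective_iff_injective_and_card f).2 ⟨hinj, by
    rw [Nat.card_prod, Nat.card_fin, card_sylS, card_normR]⟩).2 ⟨g, hg⟩
  obtain ⟨t, ht, he⟩ := mem_sylS.1 s.2
  refine ⟨_, by rw [normList, List.mem_map]; exact ⟨_, hmem i, rfl⟩, _,
    List.mem_map.2 ⟨t, ht, rfl⟩, ?_⟩
  rw [(good_sList ht).el_mul (good_cosReps (hmem i)), he]
  exact congrArg Subtype.val hx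

end Cfsg.Agent.H85.AutM22
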