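import Cfsg.Agent.H85.JFour.AutM22.ChkThree
import Cfsg.Agent.H85.JFour.AutM22.Norm

/-!
The centraliser of the subgroup of order 32, and its conjugates normalised by an element of
order 3.
-/

set_option autoImplicit false

namespace Cfsg.Agent.H85.AutM22

open Cfsg Cfsg.Agent.Golay Cfsg.Agent.H94.M24 Cfsg.Agent.H43.JFour
open scoped Pointwise

attribute [local irreducible] tblMul mkTbl tblImg powT sList rList sGens rGens cosReps duadReps
  normList duadMasks sixReps cent12 fixedDuads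

lemma baseR_comm {a b : ↥pairGrp} (ha : a ∈ baseR) (hb : b ∈ baseR) : a * b = b * a :=
  congrArg Subtype.val (isR_baseR.1.1.is_comm.comm (⟨a, ha⟩ : baseR) ⟨b, hb⟩)

lemma t3_moves : (rGens.any fun g => !(tblMul t3 g == tblMul g t3)) = true := by decide +kernel

lemma exists_not_comm {T : ℕ} (hT : Good T)
    (h : (rGens.any fun g => !(tblMul T g == tblMul g T)) = true) :
    ∃ r ∈ baseR, el T * r ≠ r * el T := by
  simp only [List.any_eq_true, Bool.not_eq_true', beq_eq_false_iff_ne] at h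
  obtain ⟨g, hg, hne⟩ := h
  exact ⟨el g, el_mem_genGrp hg, fun e => hne ((hT.comm_iff (good_rGens hg)).2 e)⟩

lemma mem_cent_iff {c : ↥pairGrp} :
    c ∈ Subgroup.centralizer (baseR : Set ↥pairGrp) ↔ ∀ r ∈ baseR, r * c = c * r :=
  Subgroup.mem_centralizer_iff

lemma cent_baseR : Subgroup.centralizer (baseR : Set ↥pairGrp) = baseR := by
  set C := Subgroup.centralizer (baseR : Set ↥pairGrp) with hC
  have hCN : C ≤ normR := fun c hc => mem_norm_iff.2 fun r hr => by
    rw [← mem_cent_iff.1 hc r hr, mul_inv_cancel_right]; exact hr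
  have hnorm : normR ≤ Subgroup.normalizer (C : Set ↥pairGrp) := fun g hg => by
    refine mem_norm_iff.2 fun c hc => mem_cent_iff.2 fun r hr => ?_
    have h1 : g⁻¹ * r * g ∈ baseR := by simpa using mem_norm_iff.1 (inv_mem hg) r hr
    have h2 := mem_cent_iff.1 hc _ h1
    calc r * (g * c * g⁻¹) = g * ((g⁻¹ * r * g) * c) * g⁻¹ := by group
      _ = g * (c * (g⁻¹ * r * g)) * g⁻¹ := by rw [h2]
      _ = g * c * g⁻¹ * r := by group
  have hno : ∀ (p : ℕ) (T : ℕ), p.Prime → ¬ p ^ 2 ∣ 3840 → Good T → el T ∈ normR →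
      orderOf (el T) = p → (rGens.any fun g => !(tblMul T g == tblMul g T)) = true →
      ¬ p ∣ Nat.card C := by
    intro p T hp hp2 hT hTN ho hmv hd
    haveI : Fact p.Prime := ⟨hp⟩
    obtain ⟨y, hy⟩ := exists_prime_orderOf_dvd_card' p hd
    rw [← orderOf_injective C.subtype C.subtype_injective] at hy
    obtain ⟨g, hg, k, hk⟩ := exists_conj_zpowers (card_normR.symm ▸ hp2) (hCN y.2) hTN hy ho
    have hTC : el T ∈ C := by
      rw [← show _ = el T from hk]
      exact zpow_mem (mem_norm_iff.1 (hnorm hg) _ y.2) k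
    obtain ⟨r, hr, hne⟩ := exists_not_comm hT hmv
    exact hne (mem_cent_iff.1 hTC r hr).symm
  have h3 := hno 3 t3 Nat.prime_three (by norm_num) good_three_five.1 gens_normR.2.1 orderOf_t3
    t3_moves
  have h5 := hno 5 t5 Nat.prime_five (by norm_num) good_three_five.2 gens_normR.2.2 orderOf_t5
    three_moves.2
  have hd : Nat.card C ∣ 256 := by
    have hd : Nat.card C ∣ 256 * 15 :=
      (Subgroup.card_dvd_of_le hCN).trans (by rw [card_normR])
    refine (Nat.Coprime.dvd_mul_right ?_).1 hd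
    exact Nat.Coprime.mul_right (k := Nat.card C) ((Nat.prime_three.coprime_iff_not_dvd.2 h3).symm)
      ((Nat.prime_five.coprime_iff_not_dvd.2 h5).symm)
  obtain ⟨k, -, hk⟩ := (Nat.dvd_prime_pow Nat.prime_two).1 (show Nat.card C ∣ 2 ^ 8 from hd)
  have hsup : IsPGroup 2 (C ⊔ sylS : Subgroup ↥pairGrp) :=
    (IsPGroup.of_card hk).to_sup_of_normal_left' isPGroup_sylS (sylS_le_normR.trans hnorm)
  have hCS : C ≤ sylS := (eq_sylS hsup le_sup_right).le.trans' le_sup_left
  refine le_antisymm (fun c hc => ?_) fun r hr => mem_cent_iff.2 fun s hs => baseR_comm hs hr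
  obtain ⟨t, ht, rfl⟩ := mem_sylS.1 (hCS hc)
  have h := centS_ok
  simp only [List.all_eq_true, Bool.or_eq_true, List.contains_iff_mem, List.any_eq_true,
    Bool.not_eq_true', beq_eq_false_iff_ne] at h
  rcases h t ht with h' | ⟨g, hg, hne⟩
  · exact mem_baseR.2 ⟨t, h', rfl⟩
  · exact absurd (((good_sList ht).comm_iff (good_rGens hg)).2
      (mem_cent_iff.1 hc _ (el_mem_genGrp hg)).symm) hne

lemma fix_baseR {r : ↥pairGrp} (hr : r ∈ baseR) (hf : ∀ g ∈ normR, g * r * g⁻¹ = r) : r = 1 := by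
  obtain ⟨t, ht, rfl⟩ := mem_baseR.1 hr
  obtain ⟨i, hi, rfl⟩ := List.getElem_of_mem ht
  rw [← List.getD_eq_getElem rList 0 hi] at hr hf ⊢
  have h := fix_witness
  simp only [List.all_eq_true, List.mem_range, Bool.or_eq_true, beq_iff_eq, forceN_eq,
    Bool.and_eq_true, decide_eq_true_eq, Bool.not_eq_true', beq_eq_false_iff_ne] at h
  rcases h i hi with rfl | ⟨hw, hne⟩
  · rw [(good_of_genOK rList_ok).2.2, el_id]
  · exfalso
    set w := ([t3, t5] ++ sGens).getD (fixWit.getD (i - 1) 0) 0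
    have hwm : w ∈ [t3, t5] ++ sGens := by
      have hw' : fixWit.getD (i - 1) 0 < ([t3, t5] ++ sGens).length := by
        rw [List.length_append]; exact hw
      show ([t3, t5] ++ sGens).getD (fixWit.getD (i - 1) 0) 0 ∈ _
      rw [List.getD_eq_getElem _ _ hw']
      exact List.getElem_mem _
    have hwg : Good w ∧ el w ∈ normR := by
      simp only [List.mem_append, List.mem_cons, List.not_mem_nil, or_false] at hwm
      rcases hwm with (e | e) | e
      · rw [e]; exact ⟨good_three_five.1, gens_normR.2.1⟩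
      · rw [e]; exact ⟨good_three_five.2, gens_normR.2.2⟩
      · exact ⟨good_sGens e, gens_normR.1 _ e⟩
    have ht' := good_rList (List.getD_eq_getElem rList 0 hi ▸ List.getElem_mem hi)
    exact hne ((hwg.1.comm_iff ht').2 (mul_inv_eq_iff_eq_mul.1 (hf _ hwg.2)))

lemma three_baseR {x r : ↥pairGrp} (hx : x ∈ normR) (ox : orderOf x = 3) (hr : r ∈ baseR)
    (hri : r ∈ innerGrp) (hc : Commute x r) : r = 1 := by
  haveI : Fact (Nat.Prime 3) := ⟨Nat.prime_three⟩
  obtain ⟨g, hg, k, hk⟩ := exists_conj_zpowers (p := 3) (by rw [card_normR]; norm_num) hx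
    gens_normR.2.1 ox orderOf_t3
  have hr' : g * r * g⁻¹ ∈ baseR := mem_norm_iff.1 hg r hr
  have hri' : g * r * g⁻¹ ∈ innerGrp := innerGrp_normal.conj_mem r hri g
  have hc' : Commute (el t3) (g * r * g⁻¹) := by
    rw [← show _ = el t3 from hk]
    exact Commute.zpow_left (Commute.map hc (MulAut.conj g)) k
  obtain ⟨t, ht, he⟩ := mem_baseR.1 hr'
  have h := three_moves.1
  simp only [rInner, List.all_eq_true, List.mem_filter, Bool.or_eq_true, beq_iff_eq,
    Bool.not_eq_true', beq_eq_false_iff_ne] at h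
  rcases h t ⟨ht, (good_rList ht).isInner_iff'.2 (he ▸ hri')⟩ with e | e
  · rw [e, el_id] at he
    rw [← conj_inv_conj (g := g) (x := r), ← he]
    group
  · exact absurd ((good_three_five.1.comm_iff (good_rList ht)).2 (he ▸ hc'.eq)) e

/-! ### The element of order 3 -/

lemma six_facts : (∀ g ∈ sixReps, Good g ∧ Commute (el g) (el t3)) ∧ ∀ c ∈ cent12, Good c :=
  ⟨fun g hg => by
    have hG := good_ok (List.all_eq_true.1 six_ok.1 g hg)
    exact ⟨hG, (hG.comm_iff good_three_five.1).1 (eq_of_beq (List.all_eq_true.1 six_ok.2.2.1 g hg))⟩,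
    fun c hc => good_ok (List.all_eq_true.1 six_ok.2.1 c hc)⟩

lemma six_duad {g : ↥pairGrp} (h : el t3 • (g • duad0) = g • duad0) :
    ∃ k ∈ sixReps, g • duad0 = el k • duad0 := by
  have hm : g • duad0 ∈ duadSet := by
    rw [← Finset.mem_coe, ← orbit_eq]; exact ⟨g, rfl⟩
  rw [duadSet, Finset.mem_image] at hm
  obtain ⟨m, hm, he⟩ := hm
  rw [List.mem_toFinset] at hm
  rw [← he, good_three_five.1.smul_ptSet] at h
  have hf : m ∈ fixedDuads := by
    rw [fixedDuads, List.mem_filter, beq_iff_eq]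
    exact ⟨hm, ptSet_injOn (tblImg_lt good_three_five.1.valid _) (duadMasks_lt hm) h⟩
  rw [six_ok.2.2.2.1, List.mem_map] at hf
  obtain ⟨k, hk, rfl⟩ := hf
  exact ⟨k, hk, by rw [← he, duad0, (six_facts.1 k hk).1.smul_ptSet]⟩

lemma mem_centThree {g : ↥pairGrp} (hg : Commute g (el t3)) :
    ∃ t ∈ centThree, Good t ∧ el t = g := by
  have h3 : el t3 • duad0 = duad0 := mem_normR_iff.1 gens_normR.2.1
  obtain ⟨k, hk, he⟩ := six_duad (g := g) (by rw [← mul_smul, ← hg.eq, mul_smul, h3])
  have hn : (el k)⁻¹ * g ∈ normR := by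
    rw [mem_normR_iff, mul_smul, he, inv_smul_smul]
  obtain ⟨L, hL, t, ht, het⟩ := normR_list hn
  have hc : t ∈ cent12 := by
    have h := cent12_ok
    simp only [List.all_eq_true, Bool.or_eq_true, Bool.not_eq_true', beq_eq_false_iff_ne,
      List.contains_iff_mem] at h
    refine (h L hL t ht).resolve_left fun hne => hne ?_
    rw [(good_normList hL ht).comm_iff good_three_five.1, het]
    exact ((Commute.inv_left (six_facts.1 k hk).2).mul_left hg).eq
  refine ⟨tblMul k t, ?_, (six_facts.1 k hk).1.mul (six_facts.2 t hc), ?_⟩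
  · rw [centThree, List.mem_flatMap]
    exact ⟨k, hk, List.mem_map.2 ⟨t, hc, rfl⟩⟩
  · rw [(six_facts.1 k hk).1.el_mul (six_facts.2 t hc), het, mul_inv_cancel_left]

lemma six_set {R : Subgroup ↥pairGrp} (hR : IsR R)
    (hn : el t3 ∈ Subgroup.normalizer (R : Set ↥pairGrp)) :
    ∃ k ∈ sixReps, baseR.map (MulAut.conj (el k)).toMonoidHom = R := by
  obtain ⟨g, rfl⟩ := exists_conj_baseR hR
  rw [norm_map_conj_mem, ← normR, mem_normR_iff, mul_smul, mul_smul, inv_smul_eq_iff] at hn
  obtain ⟨k, hk, he⟩ := six_duad hn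
  refine ⟨k, hk, ?_⟩
  have hmem : g⁻¹ * el k ∈ normR := by rw [mem_normR_iff, mul_smul, ← he, inv_smul_smul]
  calc baseR.map (MulAut.conj (el k)).toMonoidHom
      = (baseR.map (MulAut.conj (g⁻¹ * el k)).toMonoidHom).map (MulAut.conj g).toMonoidHom := by
        rw [map_conj_conj, mul_inv_cancel_left]
    _ = baseR.map (MulAut.conj g).toMonoidHom := by rw [map_conj_eq_self_iff.2 hmem]

lemma six_card :
    Nat.card {R : Subgroup ↥pairGrp // IsR R ∧ el t3 ∈ Subgroup.normalizer (R : Set ↥pairGrp)}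
      = 6 := by
  have hnd : (sixReps.map fun g => tblImg g baseDuad).Nodup := six_ok.2.2.2.1 ▸ six_ok.2.2.2.2.2
  have hlen : sixReps.length = 6 := by
    have := six_ok.2.2.2.2.1
    rwa [six_ok.2.2.2.1, List.length_map] at this
  rw [← hlen, ← List.toFinset_card_of_nodup (List.Nodup.of_map _ hnd), ← Nat.card_eq_finsetCard]
  refine (Nat.card_eq_of_bijective
    (fun k : ↥sixReps.toFinset => (⟨baseR.map (MulAut.conj (el k.1)).toMonoidHom,
      (isR_map_e (MulAut.conj (el k.1)) baseR).2 isR_baseR, by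
        rw [norm_map_conj_mem]
        have hc := (six_facts.1 k.1 (List.mem_toFinset.1 k.2)).2
        rw [mul_assoc, ← hc.eq, inv_mul_cancel_left]
        exact gens_normR.2.1⟩ : {R : Subgroup ↥pairGrp // IsR R ∧
          el t3 ∈ Subgroup.normalizer (R : Set ↥pairGrp)}))
    ⟨fun a b hab => ?_, fun R => ?_⟩).symm
  · have h : baseR.map (MulAut.conj (el a.1)).toMonoidHom =
        baseR.map (MulAut.conj (el b.1)).toMonoidHom := congrArg Subtype.val hab
    have hn : (el b.1)⁻¹ * el a.1 ∈ normR := map_conj_eq_self_iff.1 (by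
      rw [← map_conj_conj, h, map_conj_conj, inv_mul_cancel, map_conj_one])
    rw [mem_normR_iff, mul_smul, inv_smul_eq_iff, duad0,
      (six_facts.1 a.1 (List.mem_toFinset.1 a.2)).1.smul_ptSet,
      (six_facts.1 b.1 (List.mem_toFinset.1 b.2)).1.smul_ptSet] at hn
    exact Subtype.ext (List.inj_on_of_nodup_map hnd (List.mem_toFinset.1 a.2)
      (List.mem_toFinset.1 b.2) (ptSet_injOn
        (tblImg_lt (six_facts.1 a.1 (List.mem_toFinset.1 a.2)).1.valid _)
        (tblImg_lt (six_facts.1 b.1 (List.mem_toFinset.1 b.2)).1.valid _) hn))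
  · obtain ⟨k, hk, he⟩ := six_set R.2.1 R.2.2
    exact ⟨⟨k, List.mem_toFinset.2 hk⟩, Subtype.ext he⟩

end Cfsg.Agent.H85.AutM22
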