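import Cfsg.Agent.H85.JFour.AutM22.Table
import Cfsg.Agent.H85.JFour.AutM22.Data

/-!
Kernel checks: the normaliser of the subgroup of order 32 and the pairs of points.
-/

set_option autoImplicit false

namespace Cfsg.Agent.H85.AutM22

open Cfsg.Agent.Golay Cfsg.Agent.H94.M24

/-- The mask of the pair {2, 3}. -/
def baseDuad : ℕ := 2 ^ 2 ||| 2 ^ 3

/-- Inner tables. -/
def isInner (T : ℕ) : Bool := app T 23 == 23

/-- The inner members of the list of order 32. -/
def rInner : List ℕ := rList.filter isInner

lemma rInner_fix :
    (rInner.all fun t => app t 2 == 2 && app t 3 == 3) = true ∧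
    ((List.range 24).all fun i => [23, 0, 2, 3].contains i || rInner.any fun t => app t i != i)
      = true := by
  decide +kernel

lemma duad_fix :
    ((sGens ++ cosReps ++ [t3, t5] ++ rList).all fun t => ok t && (tblImg t baseDuad == baseDuad))
      = true := by
  decide +kernel

lemma norm_gens :
    ((sGens ++ [t3, t5]).all fun g => rGens.all fun r =>
      rList.any fun r' => carries g r r') = true := by
  decide +kernel

lemma three_five :
    powT 3 t3 = idTblVal ∧ t3 ≠ idTblVal ∧ powT 5 t5 = idTblVal ∧ t5 ≠ idTblVal ∧
      isInner t3 = true := by
  decide +kernel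

lemma three_moves :
    (rInner.all fun t => t == idTblVal || !(tblMul t3 t == tblMul t t3)) = true ∧
    (rGens.any fun g => !(tblMul t5 g == tblMul g t5)) = true := by
  decide +kernel

lemma fix_witness :
    ((List.range rList.length).all fun i => i == 0 ||
      forceN (([t3, t5] ++ sGens).getD (fixWit.getD (i - 1) 0) 0) fun w =>
        decide (fixWit.getD (i - 1) 0 < 2 + sGens.length) &&
        !(tblMul w (rList.getD i 0) == tblMul (rList.getD i 0) w)) = true := by
  decide +kernel

/-- The images of the pair under the listed representatives. -/
def duadMasks : List ℕ := duadReps.map fun t => tblImg t baseDuad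

lemma duad_reps :
    duadReps.all ok = true ∧ duadMasks.length = 231 ∧ duadMasks.Nodup ∧
    ((List.range 23).all fun i => (List.range 23).all fun j =>
      i == 0 || decide (j ≤ i) || duadMasks.contains (2 ^ i ||| 2 ^ j)) = true := by
  decide +kernel

/-- The right cosets of the Sylow list in the normaliser. -/
def normList : List (List ℕ) := cosReps.map fun c => sList.map fun s => tblMul s c

lemma cosets_distinct :
    normList.length = 15 ∧
    ((List.range 15).all fun i => (List.range 15).all fun j =>
      i == j || !((normList.getD j []).contains (cosReps.getD i 0))) = true := by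
  decide +kernel

end Cfsg.Agent.H85.AutM22
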