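import Cfsg.Agent.H85.JFour.AutM22.ChkSylow
import Cfsg.Agent.H85.JFour.AutM22.ChkNorm
import Cfsg.Agent.H85.JFour.AutM22.HexTables

/-!
Kernel checks for the hexad subgroup.
-/

set_option autoImplicit false

namespace Cfsg.Agent.H85.AutM22

open Cfsg.Agent.Golay Cfsg.Agent.H94.M24

lemma wList_ok : genOK wGens wList wPar = true ∧ wList.length = 16 ∧ wList.Nodup := by
  decide +kernel

lemma pList_ok : genOK pGens pList pPar = true ∧ pList.length = 9 ∧ pList.Nodup := by
  decide +kernel

lemma wList_elem :
    (wList.all fun t => isInner t && (tblMul t t == idTblVal) &&
      wGens.all fun g => tblMul t g == tblMul g t) = true := by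
  decide +kernel

/-- The test for normalising the hexad subgroup. -/
def normW (g : ℕ) : Bool := wGens.all fun w => wList.any fun w' => carries g w w'

lemma normW_ok :
    ((sGens ++ pGens ++ [f5]).all fun g => ok g && normW g) = true ∧
    ((wConj ++ lineGens).all fun g => ok g && isInner g && normW g) = true ∧
    powT 5 f5 = idTblVal ∧ f5 ≠ idTblVal := by
  decide +kernel

lemma oct_fix :
    (wList.all fun t => (List.range 24).all fun i => !octMask.testBit i || app t i == i) = true ∧
    ((List.range 24).all fun i => octMask.testBit i || wList.any fun t => app t i != i) = true := by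
  decide +kernel

lemma oct_reps :
    octReps.all ok = true ∧ octReps.length = 77 ∧
      (octReps.map fun t => tblImg t octMask).Nodup ∧ octMask < 2 ^ 24 := by
  decide +kernel

lemma centW_ok :
    (sList.all fun s => wList.contains s ||
      wGens.any fun g => !(tblMul s g == tblMul g s)) = true ∧
    (pList.all fun s => s == idTblVal || wGens.any fun g => !(tblMul s g == tblMul g s)) = true ∧
    (wGens.any fun g => !(tblMul f5 g == tblMul g f5)) = true := by
  decide +kernel

lemma wConj_ok :
    wList.contains w1 = true ∧ w1 ≠ idTblVal ∧
    (wList.all fun w => w == idTblVal || wConj.any fun g => carries g w1 w) = true := by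
  decide +kernel

/-- The test that a line can be moved to a line meeting it. -/
def lineTest (a b : ℕ) : Bool :=
  forceL [idTblVal, a, b, tblMul a b] fun l => decide l.Nodup &&
    lineGens.any fun g => ((l.filter fun y => l.any fun x => carries g x y).length == 2)

lemma line_ok :
    (wList.all fun a => wList.all fun b =>
      a == idTblVal || b == idTblVal || a == b || lineTest a b) = true := by
  decide +kernel

lemma rList_outer : rList.all isInner = false := by decide +kernel

/-- The members of a mask in the hexad subgroup. -/
def meetList (m : ℕ) : List ℕ := (bitsOf m).filter fun i => wMask.testBit i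

lemma meet_ok :
    ((List.range invList.length).all fun i =>
      !wMask.testBit i || wList.contains (invList.getD i 0)) = true ∧ invList.Nodup ∧
    (elemMasks.all fun m => forceL (bitsOf m) fun b =>
      decide (b.length < 15) || (b.any fun i => !isInner (invList.getD i 0)) ||
        decide (3 ≤ (meetList m).length)) = true := by
  decide +kernel

end Cfsg.Agent.H85.AutM22
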