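import Cfsg.Agent.H85.JFour.AutM22.Table
import Cfsg.Agent.H85.JFour.AutM22.Data

/-!
Kernel checks: the Sylow 2-subgroup, its elementary subgroups, and the subgroup of order 32.
-/

set_option autoImplicit false

namespace Cfsg.Agent.H85.AutM22

open Cfsg.Agent.Golay Cfsg.Agent.H94.M24

lemma sList_ok : genOK sGens sList sPar = true := by decide +kernel

lemma sList_facts : sList.length = 256 ∧ sList.Nodup := by decide +kernel

lemma rList_ok : genOK rGens rList rPar = true := by decide +kernel

lemma rList_facts : rList.length = 32 ∧ rList.Nodup := by decide +kernel

/-- The entry of the product table. -/
def prodAt (i j : ℕ) : ℕ := (prodRows.getD i 0 >>> (8 * j)) &&& 255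

/-- The product table is right. -/
def prodTest : Bool :=
  (List.range invList.length).all fun i => (List.range invList.length).all fun j =>
    i == j || forceN (tblMul (invList.getD i 0) (invList.getD j 0)) fun p =>
      if p == tblMul (invList.getD j 0) (invList.getD i 0) then
        decide (prodAt i j < invList.length) && (invList.getD (prodAt i j) 0 == p)
      else prodAt i j == 255

lemma prodTest_ok : prodTest = true := by decide +kernel

/-- The involution list is exactly the involutions of the Sylow list. -/
def invTest : Bool :=
  (invList.all fun t => sList.contains t && !(t == idTblVal) && (tblMul t t == idTblVal)) &&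
    sList.all fun t => t == idTblVal || invList.contains t || !(tblMul t t == idTblVal)

lemma invTest_ok : invTest = true := by decide +kernel

/-- The members of a mask. -/
def bitsOf (m : ℕ) : List ℕ := (List.range invList.length).filter fun i => m.testBit i

/-- Extension of a mask with members `b` by the involution `j` of row `row`. -/
def extMask (m j row : ℕ) (b : List ℕ) : ℕ :=
  b.foldl (fun a i => a ||| 1 <<< ((row >>> (8 * i)) &&& 255)) (m ||| 1 <<< j)

/-- The masks are closed under extension. -/
def maskTest : Bool :=
  elemMasks.contains 0 &&
  (elemMasks.all fun m =>
    forceL (bitsOf m) fun b =>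
      (decide (b.length ≤ 30) || ((b.length == 31) && (m == rMask))) &&
      (List.range invList.length).all fun j =>
        m.testBit j || forceN (prodRows.getD j 0) fun row =>
          (b.any fun i => ((row >>> (8 * i)) &&& 255) == 255) ||
            forceN (extMask m j row b) fun e => elemMasks.contains e)

lemma maskTest_ok : maskTest = true := by decide +kernel

/-- The mask of order 32 describes the list of order 32, and the latter is elementary. -/
def rTest : Bool :=
  (rList.all fun t => t == idTblVal || (bitsOf rMask).any fun i => invList.getD i 0 == t) &&
  ((bitsOf rMask).all fun i => rList.contains (invList.getD i 0)) &&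
  (rList.all fun t => (tblMul t t == idTblVal) &&
    rGens.all fun g => tblMul t g == tblMul g t) &&
  rList.all sList.contains

lemma rTest_ok : rTest = true := by decide +kernel

/-- The centraliser inside the Sylow list is the list of order 32. -/
lemma centS_ok :
    (sList.all fun s => rList.contains s ||
      rGens.any fun g => !(tblMul s g == tblMul g s)) = true := by
  decide +kernel

end Cfsg.Agent.H85.AutM22
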