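import Cfsg.Agent.H85.JFour.AutM22.ChkNorm

/-!
Kernel checks: elements of order 3 and involutions.
-/

set_option autoImplicit false

namespace Cfsg.Agent.H85.AutM22

open Cfsg.Agent.Golay Cfsg.Agent.H94.M24

lemma cent12_ok :
    (normList.all fun L => L.all fun t =>
      !(tblMul t t3 == tblMul t3 t) || cent12.contains t) = true := by
  decide +kernel

/-- The pairs fixed by the element of order 3. -/
def fixedDuads : List ℕ := duadMasks.filter fun m => tblImg t3 m == m

lemma six_ok :
    sixReps.all ok = true ∧ cent12.all ok = true ∧
    (sixReps.all fun g => tblMul g t3 == tblMul t3 g) = true ∧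
    fixedDuads = sixReps.map (fun g => tblImg g baseDuad) ∧ fixedDuads.length = 6 ∧
      fixedDuads.Nodup := by
  decide +kernel

/-- The centraliser of the element of order 3. -/
def centThree : List ℕ := sixReps.flatMap fun g => cent12.map fun c => tblMul g c

/-- The Sylow 3-list. -/
def threeList : List ℕ :=
  (List.range 3).flatMap fun i => (List.range 3).map fun j => tblMul (powT i t3) (powT j y3)

lemma three_list_ok :
    ok y3 = true ∧ threeList.length = 9 ∧ threeList.Nodup ∧ threeList.all isInner = true ∧
    (threeList.all fun a => (powT 3 a == idTblVal) && threeList.all fun b =>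
      threeList.contains (tblMul a b)) = true ∧ threeList.contains t3 = true ∧
      threeList.contains y3 = true := by
  decide +kernel

/-- The test for normalising the Sylow 3-list. -/
def normThree (g : ℕ) : Bool := [t3, y3].all fun x => threeList.any fun x' => carries g x x'

/-- The normaliser of the Sylow 3-list. -/
def normThreeList : List ℕ := pConj.flatMap fun h => pFix.map fun c => tblMul h c

lemma three_norm_ok :
    (pConj.all fun h => ok h && isInner h && normThree h) = true ∧
    (threeList.all fun x => x == idTblVal || pConj.any fun h => carries h t3 x) = true ∧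
    (pFix.all fun c => ok c && normThree c && (tblMul c t3 == tblMul t3 c)) = true ∧
    (centThree.all fun c => !normThree c || pFix.contains c) = true ∧
    normThreeList.length = 144 ∧ normThreeList.Nodup := by
  decide +kernel

/-- The inner involutions of the Sylow 2-list. -/
def innerInv : List ℕ := invList.filter isInner

lemma inv_ok :
    innerInv.length = invConj.length ∧ ok a0 = true ∧ ok w0 = true ∧ isInner w0 = false ∧
    carries w0 a0 a0 = true ∧
    ((innerInv.zip invConj).all fun x => ok x.2 && isInner x.2 && carries x.2 x.1 a0) = true := by
  decide +kernel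

/-- The outer involutions commuting with the element of order 3. -/
def outerThree : List ℕ :=
  centThree.filter fun t => (tblMul t t == idTblVal) && !isInner t

lemma outer_ok :
    outerThree.length = outConj.length ∧ ok uB = true ∧ ok t7 = true ∧
    powT 7 t7 = idTblVal ∧ t7 ≠ idTblVal ∧ tblMul t7 uB = tblMul uB t7 ∧
    ((outerThree.zip outConj).all fun x => ok x.2 && carries x.2 x.1 uB) = true := by
  decide +kernel

lemma four_ok :
    ok fourY = true ∧ ok fourA = true ∧ ok fourB = true ∧
    isInner fourY = true ∧ isInner fourA = true ∧ isInner fourB = true ∧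
    powT 3 fourY = idTblVal ∧ fourY ≠ idTblVal ∧ powT 2 fourA = idTblVal ∧ fourA ≠ idTblVal ∧
    powT 2 fourB = idTblVal ∧ fourB ≠ idTblVal ∧ fourA ≠ fourB ∧
    tblMul fourA fourB = tblMul fourB fourA ∧ tblMul t3 fourY = tblMul fourY t3 ∧
    tblMul t3 fourA = tblMul fourA t3 ∧ tblMul t3 fourB = tblMul fourB t3 ∧
    carries fourY fourA fourB = true ∧ carries fourY fourB (tblMul fourA fourB) = true := by
  decide +kernel

lemma pair_ok :
    ok pairRep = true ∧ tblImg pairRep baseDuad ≠ baseDuad ∧
    (rList.filter fun t => tblImg t (tblImg pairRep baseDuad) == tblImg pairRep baseDuad).length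
      = 16 ∧
    (rInner.filter fun t => tblImg t (tblImg pairRep baseDuad) == tblImg pairRep baseDuad).length
      = 8 := by
  decide +kernel

end Cfsg.Agent.H85.AutM22
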