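import Cfsg.Agent.H85.JFour.AutM22.ChkHex
import Cfsg.Agent.H85.JFour.AutM22.Main

/-!
The hexad subgroup, its normaliser and its centraliser.
-/

set_option autoImplicit false

namespace Cfsg.Agent.H85.AutM22

open Cfsg Cfsg.Agent.Golay Cfsg.Agent.H94.M24 Cfsg.Agent.H43.JFour
open scoped Pointwise

attribute [local irreducible] tblMul mkTbl tblImg powT sList wList wGens pList pGens wConj lineGens
  octReps

lemma exists_conj_le_in {G : Type*} [Group G] [Finite G] {p : ℕ} [Fact p.Prime]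
    {N P B : Subgroup G} (hP : IsPGroup p P) (hPN : P ≤ N) (hB : IsPGroup p B) (hBN : B ≤ N)
    (hmax : ¬ Nat.card P * p ∣ Nat.card N) :
    ∃ g ∈ N, B.map (MulAut.conj g).toMonoidHom ≤ P := by
  obtain ⟨Q, hQ⟩ :=
    (hP.of_equiv (Subgroup.subgroupOfEquivOfLe hPN).symm).exists_le_sylow
  obtain ⟨R, hR⟩ :=
    (hB.of_equiv (Subgroup.subgroupOfEquivOfLe hBN).symm).exists_le_sylow
  have hQP : (Q : Subgroup ↥N) = P.subgroupOf N := by
    refine (Subgroup.eq_of_le_of_card_ge hQ ?_).symm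
    rw [Nat.card_congr (Subgroup.subgroupOfEquivOfLe hPN).toEquiv]
    obtain ⟨a, ha⟩ := IsPGroup.iff_card.1 hP
    obtain ⟨b, hb⟩ := IsPGroup.iff_card.1 Q.isPGroup'
    rw [ha, hb]
    refine Nat.pow_le_pow_right (Fact.out (p := p.Prime)).pos ?_
    by_contra hlt
    refine hmax (Dvd.dvd.trans ?_ (Q : Subgroup ↥N).card_subgroup_dvd_card)
    rw [ha, hb, ← pow_succ]
    exact pow_dvd_pow p (not_le.1 hlt)
  obtain ⟨g, hg⟩ := MulAction.exists_smul_eq ↥N R Q
  refine ⟨g, g.2, ?_⟩
  rintro _ ⟨b, hb, rfl⟩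
  have h : g * (⟨b, hBN hb⟩ : ↥N) * g⁻¹ ∈ ((g • R : Sylow p ↥N) : Subgroup ↥N) := by
    rw [Sylow.coe_subgroup_smul, Subgroup.mem_smul_pointwise_iff_exists]
    exact ⟨⟨b, hBN hb⟩, hR hb, rfl⟩
  rw [hg, hQP, Subgroup.mem_subgroupOf] at h
  exact h

lemma genGrp_le {gens : List ℕ} {K : Subgroup ↥pairGrp} (h : ∀ t ∈ gens, el t ∈ K) :
    genGrp gens ≤ K := by
  refine (Subgroup.closure_le _).2 ?_
  rintro _ ⟨t, ht, rfl⟩
  exact h t ht

/-- The hexad subgroup. -/
noncomputable def hexW : Subgroup ↥pairGrp := genGrp wGens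

/-- Its normaliser. -/
noncomputable def normH : Subgroup ↥pairGrp := Subgroup.normalizer (hexW : Set ↥pairGrp)

lemma mem_hexW {g : ↥pairGrp} : g ∈ hexW ↔ ∃ t ∈ wList, el t = g := mem_genGrp wList_ok.1

lemma good_wList {t : ℕ} (h : t ∈ wList) : Good t := (good_of_genOK wList_ok.1).2.1 t h

lemma good_wGens {t : ℕ} (h : t ∈ wGens) : Good t := (good_of_genOK wList_ok.1).1 t h

lemma card_hexW : Nat.card hexW = 16 := by
  rw [hexW, card_genGrp wList_ok.1 wList_ok.2.2, wList_ok.2.1]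

lemma wList_facts : ∀ t ∈ wList, el t ∈ innerGrp ∧ el t ^ 2 = 1 ∧
    ∀ g ∈ wGens, Commute (el t) (el g) := by
  intro t ht
  have h := List.all_eq_true.1 wList_elem t ht
  simp only [Bool.and_eq_true, beq_iff_eq, List.all_eq_true] at h
  have hG := good_wList ht
  exact ⟨hG.isInner_iff'.1 h.1.1, by rw [pow_two, ← hG.el_mul hG, h.1.2, el_id],
    fun g hg => (hG.comm_iff (good_wGens hg)).1 (h.2 g hg)⟩

lemma elem_hexW : IsElementaryAbelian 2 hexW := by
  refine ⟨⟨⟨fun a b => ?_⟩⟩, fun a ha => ?_⟩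
  · obtain ⟨t, ht, he⟩ := mem_hexW.1 a.2
    have hle : hexW ≤ Subgroup.centralizer ({(a : ↥pairGrp)} : Set ↥pairGrp) :=
      genGrp_le fun g hg => Subgroup.mem_centralizer_singleton_iff.2
        (he ▸ ((wList_facts t ht).2.2 g hg).symm.eq)
    exact Subtype.ext (Subgroup.mem_centralizer_singleton_iff.1 (hle b.2)).symm
  · obtain ⟨t, ht, rfl⟩ := mem_hexW.1 ha
    exact (wList_facts t ht).2.1

lemma mem_normH_of {T : ℕ} (hT : Good T) (h : normW T = true) : el T ∈ normH := by
  simp only [normW, List.all_eq_true, List.any_eq_true] at h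
  refine mem_norm_closure ?_
  rintro _ ⟨r, hr, rfl⟩
  obtain ⟨r', hr', e⟩ := h r hr
  rw [(hT.carries_iff (good_wGens hr) (good_wList hr')).1 e]
  exact mem_hexW.2 ⟨r', hr', rfl⟩

lemma normers {g : ℕ} (hg : g ∈ sGens ++ pGens ++ [f5]) : Good g ∧ el g ∈ normH := by
  have h := List.all_eq_true.1 normW_ok.1 g hg
  rw [Bool.and_eq_true] at h
  exact ⟨good_ok h.1, mem_normH_of (good_ok h.1) h.2⟩

lemma inner_normers {g : ℕ} (hg : g ∈ wConj ++ lineGens) :
    Good g ∧ el g ∈ innerGrp ∧ el g ∈ normH := by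
  have h := List.all_eq_true.1 normW_ok.2.1 g hg
  simp only [Bool.and_eq_true] at h
  exact ⟨good_ok h.1.1, (good_ok h.1.1).isInner_iff'.1 h.1.2, mem_normH_of (good_ok h.1.1) h.2⟩

lemma sylS_le_normH : sylS ≤ normH :=
  genGrp_le fun t ht => (normers (List.mem_append_left _ (List.mem_append_left _ ht))).2

/-- A Sylow 3-subgroup of the normaliser. -/
noncomputable def threeH : Subgroup ↥pairGrp := genGrp pGens

lemma threeH_le : threeH ≤ normH :=
  genGrp_le fun t ht => (normers (List.mem_append_left _ (List.mem_append_right _ ht))).2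

lemma card_threeH : Nat.card threeH = 9 := by
  rw [threeH, card_genGrp pList_ok.1 pList_ok.2.2, pList_ok.2.1]

lemma f5_facts : Good f5 ∧ el f5 ∈ normH ∧ orderOf (el f5) = 5 := by
  obtain ⟨hg, hn⟩ := normers (List.mem_append_right _ (List.mem_singleton_self f5))
  haveI : Fact (Nat.Prime 5) := ⟨Nat.prime_five⟩
  exact ⟨hg, hn, orderOf_eq_prime (by rw [← (hg.pow 5).2, normW_ok.2.2.1, el_id])
    fun e => normW_ok.2.2.2 (hg.el_eq_one.1 e)⟩

/-- The octad fixed pointwise. -/
def octSet : Finset GolayPt := ptSet octMask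

/-- Its stabiliser. -/
noncomputable def stabO : Subgroup ↥pairGrp := MulAction.stabilizer ↥pairGrp octSet

lemma good_octReps {t : ℕ} (h : t ∈ octReps) : Good t :=
  good_ok (List.all_eq_true.1 oct_reps.1 t h)

lemma card_stabO_le : Nat.card stabO ≤ 11520 := by
  classical
  set T := (octReps.map fun t => tblImg t octMask).toFinset.image ptSet with hT
  have hc : T.card = 77 := by
    rw [hT, Finset.card_image_of_injOn, List.toFinset_card_of_nodup oct_reps.2.2.1,
      List.length_map, oct_reps.2.1]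
    intro a ha b hb e
    rw [Finset.mem_coe, List.mem_toFinset, List.mem_map] at ha hb
    obtain ⟨s, hs, rfl⟩ := ha
    obtain ⟨t, ht, rfl⟩ := hb
    exact ptSet_injOn (tblImg_lt (good_octReps hs).valid _) (tblImg_lt (good_octReps ht).valid _) e
  have hsub : (T : Set (Finset GolayPt)) ⊆ MulAction.orbit ↥pairGrp octSet := by
    intro D hD
    rw [hT, Finset.mem_coe, Finset.mem_image] at hD
    obtain ⟨m, hm, rfl⟩ := hD
    rw [List.mem_toFinset, List.mem_map] at hm
    obtain ⟨t, ht, rfl⟩ := hm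
    exact ⟨el t, (good_octReps ht).smul_ptSet octMask⟩
  have h := stabO.card_mul_index
  rw [card_pairGrp, stabO, MulAction.index_stabilizer] at h
  have h77 : 77 ≤ (MulAction.orbit ↥pairGrp octSet).ncard := by
    rw [← hc, ← Set.ncard_coe_finset]
    exact Set.ncard_le_ncard hsub
  have := Nat.mul_le_mul_left (Nat.card stabO) h77
  rw [stabO, h] at this
  rw [stabO]
  omega

lemma normH_le_stabO : normH ≤ stabO := by
  intro g hg
  set σ : Equiv.Perm GolayPt := (g : Equiv.Perm GolayPt) with hσ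
  have h1 := oct_fix.1
  have h2 := oct_fix.2
  simp only [List.all_eq_true, List.mem_range, Bool.or_eq_true, Bool.not_eq_true',
    beq_iff_eq] at h1
  simp only [List.all_eq_true, List.mem_range, Bool.or_eq_true, List.any_eq_true,
    bne_iff_ne] at h2
  rw [stabO, MulAction.mem_stabilizer_iff]
  refine smul_eq_of_image (fun p hp => ?_) le_rfl
  have hp' := mem_ptSet.1 hp
  rw [octSet, mem_ptSet]
  refine (h2 _ (idx_lt _)).resolve_right ?_
  rintro ⟨t, ht, hne⟩
  have hG := good_wList ht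
  have hk : g⁻¹ * el t * g⁻¹⁻¹ ∈ hexW := mem_norm_iff.1 (inv_mem hg) _ (mem_hexW.2 ⟨t, ht, rfl⟩)
  obtain ⟨u, hu, he⟩ := mem_hexW.1 hk
  have hfix : (el u : Equiv.Perm GolayPt) p = p := by
    rw [(good_wList hu).app_eq, (h1 u hu _ (idx_lt p)).resolve_left (by rw [hp']; simp), pt_idx]
  rw [he] at hfix
  simp only [inv_inv, Subgroup.coe_mul, Subgroup.coe_inv, Equiv.Perm.mul_apply,
    Equiv.Perm.coe_inv, Equiv.symm_apply_eq] at hfix
  refine hne ?_
  have e := congrArg idx hfix
  rw [hG.app_eq, idx_pt _ ((validT_bijective hG.valid).2 _ (idx_lt _))] at e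
  exact e

lemma card_normH : Nat.card normH = 11520 := by
  have h256 : 256 ∣ Nat.card normH := card_sylS ▸ Subgroup.card_dvd_of_le sylS_le_normH
  have h9 : 9 ∣ Nat.card normH := card_threeH ▸ Subgroup.card_dvd_of_le threeH_le
  have h5 : 5 ∣ Nat.card normH :=
    f5_facts.2.2 ▸ Subgroup.orderOf_dvd_natCard _ f5_facts.2.1
  have hd : 11520 ∣ Nat.card normH :=
    Nat.Coprime.mul_dvd_of_dvd_of_dvd (show Nat.Coprime (256 * 9) 5 by norm_num)
      (Nat.Coprime.mul_dvd_of_dvd_of_dvd (by norm_num) h256 h9) h5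
  refine le_antisymm ?_ (Nat.le_of_dvd Nat.card_pos hd)
  exact (Subgroup.card_le_of_le normH_le_stabO).trans card_stabO_le

lemma not_comm {T : ℕ} (hT : Good T)
    (h : (wGens.any fun g => !(tblMul T g == tblMul g T)) = true) :
    el T ∉ Subgroup.centralizer (hexW : Set ↥pairGrp) := by
  simp only [List.any_eq_true, Bool.not_eq_true', beq_eq_false_iff_ne] at h
  obtain ⟨g, hg, hne⟩ := h
  exact fun hc => hne ((hT.comm_iff (good_wGens hg)).2
    (Subgroup.mem_centralizer_iff.1 hc _ (el_mem_genGrp hg)).symm)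

lemma cent_hexW : Subgroup.centralizer (hexW : Set ↥pairGrp) = hexW := by
  set C := Subgroup.centralizer (hexW : Set ↥pairGrp) with hC
  have hCN : C ≤ normH := fun c hc => mem_norm_iff.2 fun r hr => by
    rw [← Subgroup.mem_centralizer_iff.1 hc r hr, mul_inv_cancel_right]; exact hr
  have hnorm : normH ≤ Subgroup.normalizer (C : Set ↥pairGrp) := fun g hg => by
    refine mem_norm_iff.2 fun c hc => Subgroup.mem_centralizer_iff.2 fun r hr => ?_
    have h1 : g⁻¹ * r * g ∈ hexW := by simpa using mem_norm_iff.1 (inv_mem hg) r hr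
    have h2 := Subgroup.mem_centralizer_iff.1 hc _ h1
    calc r * (g * c * g⁻¹) = g * ((g⁻¹ * r * g) * c) * g⁻¹ := by group
      _ = g * (c * (g⁻¹ * r * g)) * g⁻¹ := by rw [h2]
      _ = g * c * g⁻¹ * r := by group
  have h3 : ¬ 3 ∣ Nat.card C := by
    intro hd
    haveI : Fact (Nat.Prime 3) := ⟨Nat.prime_three⟩
    obtain ⟨⟨y, hy⟩, ho⟩ := exists_prime_orderOf_dvd_card' 3 hd
    rw [← orderOf_injective C.subtype C.subtype_injective, Subgroup.coe_subtype] at ho
    obtain ⟨g, hg, hle⟩ := exists_conj_le_in (p := 3)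
      (IsPGroup.of_card (p := 3) (n := 2) (G := ↥threeH) (by rw [card_threeH]; norm_num))
      threeH_le
      (IsPGroup.of_card (p := 3) (n := 1) (G := ↥(Subgroup.zpowers y))
        (by rw [Nat.card_zpowers, ho, pow_one]))
      (Subgroup.zpowers_le.2 (hCN hy)) (by rw [card_threeH, card_normH]; norm_num)
    have hm := hle ⟨y, Subgroup.mem_zpowers y, rfl⟩
    have hzC : g * y * g⁻¹ ∈ C := mem_norm_iff.1 (hnorm hg) y hy
    obtain ⟨t, ht, he⟩ := (mem_genGrp pList_ok.1).1 hm
    have h := centW_ok.2.1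
    simp only [List.all_eq_true, Bool.or_eq_true, beq_iff_eq] at h
    have hG : Good t := (good_of_genOK pList_ok.1).2.1 t ht
    rcases h t ht with e | e
    · rw [e, el_id] at he
      have : y = 1 := conj_eq_one_iff.1 he.symm
      subst this
      simp at ho
    · exact not_comm hG e (he.symm ▸ hzC)
  have h5 : ¬ 5 ∣ Nat.card C := by
    intro hd
    haveI : Fact (Nat.Prime 5) := ⟨Nat.prime_five⟩
    obtain ⟨y, hy⟩ := exists_prime_orderOf_dvd_card' 5 hd
    rw [← orderOf_injective C.subtype C.subtype_injective] at hy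
    obtain ⟨g, hg, k, hk⟩ := exists_conj_zpowers (p := 5) (by rw [card_normH]; norm_num)
      (hCN y.2) f5_facts.2.1 hy f5_facts.2.2
    refine not_comm f5_facts.1 centW_ok.2.2 ?_
    rw [← show _ = el f5 from hk]
    exact zpow_mem (mem_norm_iff.1 (hnorm hg) _ y.2) k
  have hd : Nat.card C ∣ 256 := by
    have hd : Nat.card C ∣ 256 * 45 := (Subgroup.card_dvd_of_le hCN).trans (by rw [card_normH])
    refine (Nat.Coprime.dvd_mul_right ?_).1 hd
    have c3 := (Nat.prime_three.coprime_iff_not_dvd.2 h3).symm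
    exact Nat.Coprime.mul_right (k := Nat.card C) (Nat.Coprime.mul_right c3 c3)
      ((Nat.prime_five.coprime_iff_not_dvd.2 h5).symm)
  obtain ⟨k, -, hk⟩ := (Nat.dvd_prime_pow Nat.prime_two).1 (show Nat.card C ∣ 2 ^ 8 from hd)
  have hsup : IsPGroup 2 (C ⊔ sylS : Subgroup ↥pairGrp) :=
    (IsPGroup.of_card hk).to_sup_of_normal_left' isPGroup_sylS (sylS_le_normH.trans hnorm)
  have hCS : C ≤ sylS := (eq_sylS hsup le_sup_right).le.trans' le_sup_left
  refine le_antisymm (fun c hc => ?_) fun r hr => Subgroup.mem_centralizer_iff.2 fun s hs =>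
    congrArg Subtype.val (elem_hexW.1.is_comm.comm (⟨s, hs⟩ : hexW) ⟨r, hr⟩)
  obtain ⟨t, ht, rfl⟩ := mem_sylS.1 (hCS hc)
  have h := centW_ok.1
  simp only [List.all_eq_true, Bool.or_eq_true, List.contains_iff_mem] at h
  rcases h t ht with h' | h'
  · exact mem_hexW.2 ⟨t, h', rfl⟩
  · exact absurd hc (not_comm (good_sList ht) h')

end Cfsg.Agent.H85.AutM22
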