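import Cfsg.Agent.H85.JFour.AutM22.Hex

/-!
An elementary subgroup of the normaliser of the hexad subgroup meeting it in index at least 4 also
normalises another conjugate of it.
-/

set_option autoImplicit false

namespace Cfsg.Agent.H85.AutM22

open Cfsg Cfsg.Agent.Golay Cfsg.Agent.H94.M24 Cfsg.Agent.H43.JFour
open scoped Pointwise

attribute [local irreducible] tblMul mkTbl tblImg powT sList wList wGens pList pGens wConj lineGens
  octReps

/-- Every small-meet mask fixes a further octad of the orbit. -/
def otherTest : Bool :=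
  forceL ((octReps.map fun t => tblImg t octMask).filter fun D => !(D == octMask)) fun Ds =>
    elemMasks.all fun m => forceL (bitsOf m) fun b =>
      decide (b.length + 1 < 4 * ((meetList m).length + 1)) ||
        Ds.any fun D => b.all fun i => tblImg (invList.getD i 0) D == D

lemma other_ok : otherTest = true := by decide +kernel

lemma normH_eq_stabO : normH = stabO :=
  Subgroup.eq_of_le_of_card_ge normH_le_stabO (by rw [card_normH]; exact card_stabO_le)

/-- The property, for an abstract hexad subgroup. -/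
def HasOther {A : Type*} [Group A] (W : Subgroup A) : Prop :=
  ∀ B : Subgroup A, B ≤ Subgroup.normalizer (W : Set A) → IsElementaryAbelian 2 B →
    4 * Nat.card ↥(B ⊓ W) ≤ Nat.card B →
    ∃ β : A, β ∉ Subgroup.normalizer (W : Set A) ∧
      ∀ b ∈ B, β⁻¹ * b * β ∈ Subgroup.normalizer (W : Set A)

theorem hasOther_pairGrp : HasOther hexW := by
  classical
  intro B hB he h4
  change B ≤ normH at hB
  have : Fact (Nat.Prime 2) := ⟨Nat.prime_two⟩
  obtain ⟨g, hg, hle⟩ := exists_conj_le_in (p := 2) isPGroup_sylS sylS_le_normH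
    (isPGroup_elem he) hB (by rw [card_sylS, card_normH]; norm_num)
  set B' := B.map (MulAut.conj g).toMonoidHom with hB'
  have hW : hexW.map (MulAut.conj g).toMonoidHom = hexW := map_conj_eq_self_iff.2 hg
  rw [← card_map_e (MulAut.conj g), Subgroup.map_inf _ _ _ (MulAut.conj g).injective, hW, ← hB',
    show Nat.card B = Nat.card B' by rw [hB', card_map_e]] at h4
  obtain ⟨m, hm, hmB, hcov, hcard⟩ := exists_mask ((elem_map_e (MulAut.conj g) 2 B).2 he) hle
  have hmeet : (meetList m).length + 1 ≤ Nat.card ↥(B' ⊓ hexW) := by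
    obtain ⟨hw, hnd, -⟩ := meet_ok
    simp only [List.all_eq_true, List.mem_range, Bool.or_eq_true, Bool.not_eq_true',
      List.contains_iff_mem] at hw
    have hinj : ∀ i ∈ meetList m, ∀ j ∈ meetList m, inv' i = inv' j → i = j := by
      intro i hi j hj e
      have hi' := (mem_bitsOf.1 (List.mem_filter.1 hi).1).1
      have hj' := (mem_bitsOf.1 (List.mem_filter.1 hj).1).1
      have := (invList_facts.1 _ (getD_invList_mem hi')).1.inj
        (invList_facts.1 _ (getD_invList_mem hj')).1 e
      rw [List.getD_eq_getElem _ _ hi', List.getD_eq_getElem _ _ hj'] at this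
      exact hnd.getElem_inj_iff.1 this
    have hndm : (meetList m).Nodup := (List.nodup_range.filter _).filter _
    have hsub : (↑(insert 1 ((meetList m).toFinset.image inv')) : Set ↥pairGrp) ⊆
        ((B' ⊓ hexW : Subgroup ↥pairGrp) : Set ↥pairGrp) := by
      intro z hz
      rw [Finset.coe_insert, Set.mem_insert_iff, Finset.mem_coe, Finset.mem_image] at hz
      rcases hz with rfl | ⟨i, hi, rfl⟩
      · exact one_mem _
      · rw [List.mem_toFinset, meetList, List.mem_filter] at hi
        exact ⟨hmB i hi.1, mem_hexW.2 ⟨_, (hw i (mem_bitsOf.1 hi.1).1).resolve_left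
          (by rw [hi.2]; simp), rfl⟩⟩
    refine le_trans ?_ (Set.ncard_le_ncard hsub)
    rw [Set.ncard_coe_finset, Finset.card_insert_of_notMem, Finset.card_image_of_injOn,
      List.toFinset_card_of_nodup hndm]
    · intro i hi j hj
      exact hinj i (List.mem_toFinset.1 hi) j (List.mem_toFinset.1 hj)
    · rw [Finset.mem_image]
      rintro ⟨i, hi, e⟩
      exact (invList_facts.1 _ (getD_invList_mem
        (mem_bitsOf.1 (List.mem_filter.1 (List.mem_toFinset.1 hi)).1).1)).2 e
  have ht := other_ok
  simp only [otherTest, forceL_eq, List.all_eq_true, Bool.or_eq_true, decide_eq_true_eq,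
    List.any_eq_true, beq_iff_eq, List.mem_filter, List.mem_map, Bool.not_eq_true',
    beq_eq_false_iff_ne] at ht
  obtain ⟨D, ⟨⟨t, htm, rfl⟩, hne⟩, hfix⟩ := (ht m hm).resolve_left (by rw [← hB'] at hcard; omega)
  have hG := good_octReps htm
  have hmem : ∀ x : ↥pairGrp, x ∈ normH ↔ x • octSet = octSet := fun x => by
    rw [normH_eq_stabO, stabO, MulAction.mem_stabilizer_iff]
  have hβ : el t ∉ normH := fun h => hne <| by
    refine ptSet_injOn (tblImg_lt hG.valid _) oct_reps.2.2.2 ?_
    rw [← hG.smul_ptSet]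
    exact (hmem _).1 h
  have hg' : g ∈ normH := hg
  refine ⟨g⁻¹ * el t, fun h => hβ ?_, fun b hb => ?_⟩
  · have h' := mul_mem hg' (show g⁻¹ * el t ∈ normH from h)
    rwa [mul_inv_cancel_left] at h'
  · show (g⁻¹ * el t)⁻¹ * b * (g⁻¹ * el t) ∈ normH
    rw [hmem, mul_smul, mul_smul, inv_smul_eq_iff, mul_smul g⁻¹ (el t) octSet]
    have hb' : g * b * g⁻¹ ∈ B' := ⟨b, hb, rfl⟩
    have hfx : (g * b * g⁻¹) • (el t • octSet) = el t • octSet := by
      have hc := hcov hb'
      rw [Finset.coe_insert, Set.mem_insert_iff, Finset.mem_coe, Finset.mem_image] at hc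
      rcases hc with e | ⟨i, hi, e⟩
      · rw [e, one_smul]
      · rw [List.mem_toFinset] at hi
        have hGi := (invList_facts.1 _ (getD_invList_mem (mem_bitsOf.1 hi).1)).1
        rw [← e, octSet, hG.smul_ptSet, inv', hGi.smul_ptSet, hfix i hi]
    rw [mul_smul, mul_smul] at hfx
    conv_rhs => rw [← hfx, inv_smul_smul]

theorem hasOther_map {A B : Type*} [Group A] [Group B] (e : A ≃* B) {W : Subgroup A}
    (d : HasOther W) : HasOther (W.map e.toMonoidHom) := by
  intro K hK he h4
  obtain ⟨L, rfl⟩ := exists_map_e e K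
  rw [norm_map_e] at hK ⊢
  rw [← Subgroup.map_inf _ _ _ e.injective, card_map_e, card_map_e] at h4
  obtain ⟨β, hβ, hb⟩ := d L ((Subgroup.map_le_map_iff_of_injective e.injective).1 hK)
    ((elem_map_e e 2 L).1 he) h4
  refine ⟨e β, fun h => hβ ((mem_map_e e).1 h), ?_⟩
  rintro _ ⟨l, hl, rfl⟩
  have := (mem_map_e e).2 (hb l hl)
  simpa using this

end Cfsg.Agent.H85.AutM22
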