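import Cfsg.Agent.H85.JFour.AutM22.Cent

/-!
Sylow 3-subgroups, involutions, and intersections of subgroups of order 32 with normalisers.
-/

set_option autoImplicit false

namespace Cfsg.Agent.H85.AutM22

open Cfsg Cfsg.Agent.Golay Cfsg.Agent.H94.M24 Cfsg.Agent.H43.JFour
open scoped Pointwise

attribute [local irreducible] tblMul mkTbl tblImg powT sList rList sGens rGens cosReps duadReps
  normList duadMasks sixReps cent12 fixedDuads threeList pConj pFix normThreeList centThree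
  invList innerInv invConj outerThree outConj

lemma good_t3_y3 : Good t3 ∧ Good y3 := ⟨good_three_five.1, good_ok three_list_ok.1⟩

lemma threeList_form {t : ℕ} (h : t ∈ threeList) :
    ∃ i j : ℕ, Good t ∧ el t = el t3 ^ i * el y3 ^ j := by
  simp only [threeList, List.mem_flatMap, List.mem_map, List.mem_range] at h
  obtain ⟨i, -, j, -, rfl⟩ := h
  refine ⟨i, j, (good_t3_y3.1.pow i).1.mul (good_t3_y3.2.pow j).1, ?_⟩
  rw [(good_t3_y3.1.pow i).1.el_mul (good_t3_y3.2.pow j).1, (good_t3_y3.1.pow i).2,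
    (good_t3_y3.2.pow j).2]

lemma good_threeList {t : ℕ} (h : t ∈ threeList) : Good t :=
  (threeList_form h).choose_spec.choose_spec.1

lemma threeList_facts :
    (∀ a ∈ threeList, powT 3 a = idTblVal ∧ isInner a = true) ∧
    (∀ a ∈ threeList, ∀ b ∈ threeList, tblMul a b ∈ threeList) ∧ t3 ∈ threeList ∧ y3 ∈ threeList := by
  obtain ⟨-, -, -, hi, h, ht, hy⟩ := three_list_ok
  simp only [List.all_eq_true, Bool.and_eq_true, beq_iff_eq, List.contains_iff_mem] at hi h ht hy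
  exact ⟨fun a ha => ⟨(h a ha).1, hi a ha⟩, fun a ha => (h a ha).2, ht, hy⟩

lemma three_cube {a : ℕ} (ha : a ∈ threeList) : el a ^ 3 = 1 := by
  rw [← ((good_threeList ha).pow 3).2, (threeList_facts.1 a ha).1, el_id]

/-- The Sylow 3-subgroup. -/
noncomputable def sylP : Subgroup ↥pairGrp where
  carrier := {g | ∃ t ∈ threeList, el t = g}
  mul_mem' := by
    rintro _ _ ⟨a, ha, rfl⟩ ⟨b, hb, rfl⟩
    exact ⟨_, threeList_facts.2.1 a ha b hb, (good_threeList ha).el_mul (good_threeList hb)⟩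
  one_mem' := by
    have ha := threeList_facts.2.2.1
    have h2 := threeList_facts.2.1 _ ha _ ha
    refine ⟨_, threeList_facts.2.1 _ ha _ h2, ?_⟩
    rw [(good_threeList ha).el_mul (good_threeList h2),
      (good_threeList ha).el_mul (good_threeList ha), ← three_cube ha, pow_three]
  inv_mem' := by
    rintro _ ⟨a, ha, rfl⟩
    refine ⟨_, threeList_facts.2.1 a ha a ha, ?_⟩
    rw [(good_threeList ha).el_mul (good_threeList ha)]
    exact eq_inv_of_mul_eq_one_left (by rw [mul_assoc, ← pow_three, three_cube ha])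

lemma mem_sylP {g : ↥pairGrp} : g ∈ sylP ↔ ∃ t ∈ threeList, el t = g := Iff.rfl

lemma card_sylP : Nat.card sylP = 9 := by
  rw [card_of_list three_list_ok.2.2.1 (fun t ht => good_threeList ht) (fun g => mem_sylP),
    three_list_ok.2.1]

lemma eq_sylP {Q : Subgroup ↥pairGrp} (hQ : IsPGroup 3 Q) (h : sylP ≤ Q) : Q = sylP := by
  haveI : Fact (Nat.Prime 3) := ⟨Nat.prime_three⟩
  refine (Subgroup.eq_of_le_of_card_ge h ?_).symm
  obtain ⟨k, hk⟩ := IsPGroup.iff_card.1 hQ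
  have hd : Nat.card Q ∣ 887040 := card_pairGrp ▸ Q.card_subgroup_dvd_card
  rw [card_sylP, hk]
  rw [hk] at hd
  by_contra hlt
  have h3 : 3 ^ 3 ∣ 3 ^ k := pow_dvd_pow 3 (by
    by_contra h3
    exact hlt (le_trans (Nat.pow_le_pow_right (by norm_num) (by omega : k ≤ 2)) (by norm_num)))
  exact absurd (h3.trans hd) (by decide +kernel)

lemma exists_conj_sylP (P : Sylow 3 ↥pairGrp) :
    ∃ g : ↥pairGrp, sylP.map (MulAut.conj g).toMonoidHom = (P : Subgroup ↥pairGrp) := by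
  haveI : Fact (Nat.Prime 3) := ⟨Nat.prime_three⟩
  obtain ⟨Q, hQ⟩ :=
    (IsPGroup.of_card (p := 3) (n := 2) (G := ↥sylP) (by rw [card_sylP]; norm_num)).exists_le_sylow
  obtain ⟨g, hg⟩ := MulAction.exists_smul_eq ↥pairGrp Q P
  refine ⟨g, ?_⟩
  rw [← eq_sylP Q.isPGroup' hQ, ← hg]
  rfl

/-! ### The normaliser -/

lemma Good.normThree_iff {T : ℕ} (h : Good T) :
    normThree T = true ↔ el T ∈ Subgroup.normalizer (sylP : Set ↥pairGrp) := by
  simp only [normThree, List.all_eq_true, List.any_eq_true, List.mem_cons, List.not_mem_nil,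
    or_false, forall_eq_or_imp, forall_eq]
  constructor
  · rintro ⟨⟨a, ha, h1⟩, b, hb, h2⟩
    rw [h.carries_iff good_t3_y3.1 (good_threeList ha)] at h1
    rw [h.carries_iff good_t3_y3.2 (good_threeList hb)] at h2
    refine mem_norm_iff.2 fun k hk => ?_
    obtain ⟨t, ht, rfl⟩ := mem_sylP.1 hk
    obtain ⟨i, j, -, he⟩ := threeList_form ht
    rw [he, ← MulAut.conj_apply, map_mul, map_pow, map_pow, MulAut.conj_apply,
      MulAut.conj_apply, h1, h2]
    exact mul_mem (pow_mem (mem_sylP.2 ⟨a, ha, rfl⟩) i) (pow_mem (mem_sylP.2 ⟨b, hb, rfl⟩) j)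
  · intro hn
    have key : ∀ x ∈ threeList, ∃ x' ∈ threeList, carries T x x' = true := fun x hx => by
      obtain ⟨x', hx', he⟩ := mem_sylP.1 (mem_norm_iff.1 hn _ (mem_sylP.2 ⟨x, hx, rfl⟩))
      exact ⟨x', hx', (h.carries_iff (good_threeList hx) (good_threeList hx')).2 he.symm⟩
    exact ⟨key _ threeList_facts.2.2.1, key _ threeList_facts.2.2.2⟩

lemma pConj_facts {h : ℕ} (hh : h ∈ pConj) :
    Good h ∧ el h ∈ innerGrp ∧ el h ∈ Subgroup.normalizer (sylP : Set ↥pairGrp) := by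
  have e := List.all_eq_true.1 three_norm_ok.1 h hh
  simp only [Bool.and_eq_true] at e
  have hg := good_ok e.1.1
  exact ⟨hg, hg.isInner_iff'.1 e.1.2, hg.normThree_iff.1 e.2⟩

lemma pFix_facts {c : ℕ} (hc : c ∈ pFix) :
    Good c ∧ el c ∈ Subgroup.normalizer (sylP : Set ↥pairGrp) := by
  have e := List.all_eq_true.1 three_norm_ok.2.2.1 c hc
  simp only [Bool.and_eq_true] at e
  exact ⟨good_ok e.1.1, (good_ok e.1.1).normThree_iff.1 e.1.2⟩

lemma exists_pConj {a : ↥pairGrp} (ha : a ∈ sylP) (h1 : a ≠ 1) :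
    ∃ h ∈ pConj, el h * el t3 * (el h)⁻¹ = a := by
  obtain ⟨t, ht, rfl⟩ := mem_sylP.1 ha
  have h := three_norm_ok.2.1
  simp only [List.all_eq_true, Bool.or_eq_true, beq_iff_eq, List.any_eq_true] at h
  obtain ⟨c, hc, e⟩ := (h t ht).resolve_left fun e => h1 ((good_threeList ht).el_eq_one.2 e)
  exact ⟨c, hc, ((pConj_facts hc).1.carries_iff good_t3_y3.1 (good_threeList ht)).1 e⟩

lemma trans_sylP {a b : ↥pairGrp} (ha : a ∈ sylP) (hb : b ∈ sylP) (ha1 : a ≠ 1) (hb1 : b ≠ 1) :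
    ∃ g ∈ innerGrp ⊓ Subgroup.normalizer (sylP : Set ↥pairGrp), g * a * g⁻¹ = b := by
  obtain ⟨h, hh, e⟩ := exists_pConj ha ha1
  obtain ⟨h', hh', e'⟩ := exists_pConj hb hb1
  have hi : el h' * (el h)⁻¹ ∈ innerGrp :=
    mul_mem (pConj_facts hh').2.1 (inv_mem (pConj_facts hh).2.1)
  have hn : el h' * (el h)⁻¹ ∈ Subgroup.normalizer (sylP : Set ↥pairGrp) :=
    mul_mem (pConj_facts hh').2.2 (inv_mem (pConj_facts hh).2.2)
  refine ⟨el h' * (el h)⁻¹, ⟨hi, hn⟩, ?_⟩
  rw [← e, ← e']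
  group

lemma card_norm_sylP : Nat.card (Subgroup.normalizer (sylP : Set ↥pairGrp)) = 144 := by
  obtain ⟨-, -, -, hfix, hlen, hnd⟩ := three_norm_ok
  simp only [List.all_eq_true, Bool.or_eq_true, Bool.not_eq_true', List.contains_iff_mem] at hfix
  have hform : ∀ t ∈ normThreeList, ∃ h ∈ pConj, ∃ c ∈ pFix, tblMul h c = t := fun t ht => by
    simpa [normThreeList, List.mem_flatMap, List.mem_map] using ht
  rw [← hlen]
  refine card_of_list hnd (fun t ht => ?_) fun g => ⟨fun hg => ?_, ?_⟩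
  · obtain ⟨h, hh, c, hc, rfl⟩ := hform t ht
    exact (pConj_facts hh).1.mul (pFix_facts hc).1
  · have hx : g * el t3 * g⁻¹ ∈ sylP :=
      mem_norm_iff.1 hg _ (mem_sylP.2 ⟨t3, threeList_facts.2.2.1, rfl⟩)
    obtain ⟨h, hh, e⟩ := exists_pConj hx (fun e => three_five.2.1
      (good_t3_y3.1.el_eq_one.1 (conj_eq_one_iff.1 e)))
    have hc : Commute ((el h)⁻¹ * g) (el t3) := by
      show (el h)⁻¹ * g * el t3 = el t3 * ((el h)⁻¹ * g)
      calc (el h)⁻¹ * g * el t3 = (el h)⁻¹ * (g * el t3 * g⁻¹) * g := by group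
        _ = el t3 * ((el h)⁻¹ * g) := by rw [← e]; group
    obtain ⟨c, hc', hcg, hce⟩ := mem_centThree hc
    have hcn : normThree c = true := by
      rw [hcg.normThree_iff, hce]
      exact mul_mem (inv_mem (pConj_facts hh).2.2) hg
    have hcp : c ∈ pFix := (hfix c hc').resolve_left (by rw [hcn]; simp)
    refine ⟨tblMul h c, ?_, ?_⟩
    · rw [normThreeList, List.mem_flatMap]
      exact ⟨h, hh, List.mem_map.2 ⟨c, hcp, rfl⟩⟩
    · rw [(pConj_facts hh).1.el_mul hcg, hce, mul_inv_cancel_left]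
  · rintro ⟨t, ht, rfl⟩
    obtain ⟨h, hh, c, hc, rfl⟩ := hform t ht
    rw [(pConj_facts hh).1.el_mul (pFix_facts hc).1]
    exact mul_mem (pConj_facts hh).2.2 (pFix_facts hc).2

lemma exists_conj_t3 {x : ↥pairGrp} (hx : orderOf x = 3) :
    ∃ g : ↥pairGrp, g * el t3 * g⁻¹ = x := by
  haveI : Fact (Nat.Prime 3) := ⟨Nat.prime_three⟩
  obtain ⟨P, hP⟩ := (IsPGroup.of_card (n := 1) (G := ↥(Subgroup.zpowers x))
    (by rw [Nat.card_zpowers, hx, pow_one])).exists_le_sylow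
  obtain ⟨g, hg⟩ := exists_conj_sylP P
  have hm := hP (Subgroup.mem_zpowers x)
  rw [← hg, mem_map_conj] at hm
  obtain ⟨h, -, e⟩ := exists_pConj hm (fun e => by
    rw [← MulAut.conj_symm_apply, map_eq_one_iff _ (MulEquiv.injective _)] at e
    rw [e, orderOf_one] at hx
    norm_num at hx)
  refine ⟨g * el h, ?_⟩
  calc g * el h * el t3 * (g * el h)⁻¹ = g * (el h * el t3 * (el h)⁻¹) * g⁻¹ := by group
    _ = x := by rw [e]; group

/-! ### Involutions -/

lemma innerInv_conj {a : ↥pairGrp} (ha : a ∈ innerGrp) (ho : orderOf a = 2) :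
    ∃ g ∈ innerGrp, g * a * g⁻¹ = el a0 := by
  obtain ⟨hlen, ha0, hw0, hwi, hwa, hz⟩ := inv_ok
  obtain ⟨g, hg⟩ := exists_conj_le (IsPGroup.of_card (n := 1) (G := ↥(Subgroup.zpowers a))
    (by rw [Nat.card_zpowers, ho, pow_one]))
  have hm : g * a * g⁻¹ ∈ sylS := hg ⟨a, Subgroup.mem_zpowers a, rfl⟩
  have hmi : g * a * g⁻¹ ∈ innerGrp := innerGrp_normal.conj_mem a ha g
  have ho' : orderOf (g * a * g⁻¹) = 2 :=
    (MulEquiv.orderOf_eq (MulAut.conj g) a).trans ho
  obtain ⟨t, ht, he⟩ := mem_sylS.1 hm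
  have hG := good_sList ht
  rw [← he] at ho' hmi
  have ht2 : tblMul t t = idTblVal := by
    refine (hG.mul hG).el_eq_one.1 ?_
    rw [hG.el_mul hG, ← pow_two, ← ho', pow_orderOf_eq_one]
  have hne : t ≠ idTblVal := fun e => by rw [e, el_id, orderOf_one] at ho'; norm_num at ho'
  have hmem : t ∈ innerInv := by
    rw [innerInv, List.mem_filter]
    exact ⟨(invList_facts.2 t ht ht2).resolve_left hne, hG.isInner_iff'.2 hmi⟩
  obtain ⟨i, hi, rfl⟩ := List.getElem_of_mem hmem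
  have hz' := List.all_eq_true.1 hz _ (List.getElem_mem (n := i)
    (by rw [List.length_zip, ← hlen, min_self]; exact hi))
  simp only [List.getElem_zip, Bool.and_eq_true] at hz'
  obtain ⟨⟨hc, hci⟩, hcar⟩ := hz'
  have hcg := good_ok hc
  rw [hcg.carries_iff hG (good_ok ha0)] at hcar
  set k := el invConj[i] * g with hk
  have hka : k * a * k⁻¹ = el a0 := by
    rw [← hcar, he, hk]
    group
  by_cases hkm : k ∈ innerGrp
  · exact ⟨k, hkm, hka⟩
  · refine ⟨el w0 * k, ?_, ?_⟩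
    · rw [Subgroup.mul_mem_iff_of_index_two index_innerGrp]
      have : el w0 ∉ innerGrp := fun h => by
        rw [(good_ok hw0).isInner_iff'.2 h] at hwi; exact Bool.noConfusion hwi
      exact iff_of_false this hkm
    · have hw := ((good_ok hw0).carries_iff (good_ok ha0) (good_ok ha0)).1 hwa
      calc el w0 * k * a * (el w0 * k)⁻¹ = el w0 * (k * a * k⁻¹) * (el w0)⁻¹ := by group
        _ = el a0 := by rw [hka, hw]

lemma outer_seven {u : ↥pairGrp} (hu : u ∉ innerGrp) (ho : orderOf u = 2)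
    (h3 : 3 ∣ Nat.card (Subgroup.centralizer ({u} : Set ↥pairGrp))) :
    7 ∣ Nat.card (Subgroup.centralizer ({u} : Set ↥pairGrp)) := by
  haveI : Fact (Nat.Prime 3) := ⟨Nat.prime_three⟩
  obtain ⟨hlen, huB, ht7, h77, h7n, h7c, hz⟩ := outer_ok
  obtain ⟨⟨x, hx⟩, hox⟩ := exists_prime_orderOf_dvd_card' 3 h3
  rw [← orderOf_injective (Subgroup.centralizer ({u} : Set ↥pairGrp)).subtype
    Subtype.val_injective, Subgroup.coe_subtype] at hox
  obtain ⟨g, hg⟩ := exists_conj_t3 hox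
  have hxu : x * u = u * x := Subgroup.mem_centralizer_singleton_iff.1 hx
  set v := g⁻¹ * u * g with hv
  have hvc : Commute v (el t3) := by
    show v * el t3 = el t3 * v
    rw [← conj_inv_conj (g := g) (x := el t3), hg, hv]
    calc g⁻¹ * u * g * (g⁻¹ * x * g) = g⁻¹ * (u * x) * g := by group
      _ = g⁻¹ * (x * u) * g := by rw [hxu]
      _ = g⁻¹ * x * g * (g⁻¹ * u * g) := by group
  have hvo : orderOf v = 2 := by
    rw [hv, ← MulAut.conj_symm_apply, MulEquiv.orderOf_eq]; exact ho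
  have hvi : v ∉ innerGrp := fun h => hu (by
    have := innerGrp_normal.conj_mem v h g
    rwa [hv, show g * (g⁻¹ * u * g) * g⁻¹ = u by group] at this)
  obtain ⟨t, ht, hG, he⟩ := mem_centThree hvc
  have hmem : t ∈ outerThree := by
    rw [outerThree, List.mem_filter, Bool.and_eq_true, beq_iff_eq, Bool.not_eq_true']
    refine ⟨ht, (hG.mul hG).el_eq_one.1 ?_, ?_⟩
    · rw [hG.el_mul hG, he, ← pow_two, ← hvo, pow_orderOf_eq_one]
    · exact Bool.eq_false_iff.2 fun e => hvi (he ▸ hG.isInner_iff'.1 e)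
  obtain ⟨i, hi, rfl⟩ := List.getElem_of_mem hmem
  have hz' := List.all_eq_true.1 hz _ (List.getElem_mem (n := i)
    (by rw [List.length_zip, ← hlen, min_self]; exact hi))
  simp only [List.getElem_zip, Bool.and_eq_true] at hz'
  rw [(good_ok hz'.1).carries_iff hG (good_ok huB), he] at hz'
  obtain ⟨hc, hcar⟩ := hz'
  set k := g * (el outConj[i])⁻¹ with hk
  have h7 : Commute (el t7) (el uB) := ((good_ok ht7).comm_iff (good_ok huB)).1 h7c
  have hku : k * el uB * k⁻¹ = u := by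
    rw [← hcar, hk, hv]
    group
  have hmem7 : k * el t7 * k⁻¹ ∈ Subgroup.centralizer ({u} : Set ↥pairGrp) := by
    rw [Subgroup.mem_centralizer_singleton_iff, ← hku]
    exact (Commute.map h7 (MulAut.conj k)).eq
  haveI : Fact (Nat.Prime 7) := ⟨by norm_num⟩
  have ho7 : orderOf (el t7) = 7 :=
    orderOf_eq_prime (by rw [← ((good_ok ht7).pow 7).2, h77, el_id])
      fun e => h7n ((good_ok ht7).el_eq_one.1 e)
  rw [← ho7, ← MulEquiv.orderOf_eq (MulAut.conj k) (el t7), MulAut.conj_apply]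
  exact Subgroup.orderOf_dvd_natCard _ hmem7

lemma three_four : ∃ x y a b : ↥pairGrp, x ∈ innerGrp ∧ y ∈ innerGrp ∧ a ∈ innerGrp ∧
    b ∈ innerGrp ∧ orderOf x = 3 ∧ orderOf y = 3 ∧ orderOf a = 2 ∧ orderOf b = 2 ∧ a ≠ b ∧
    Commute a b ∧ Commute x y ∧ Commute x a ∧ Commute x b ∧
    y * a * y⁻¹ = b ∧ y * b * y⁻¹ = a * b := by
  haveI : Fact (Nat.Prime 3) := ⟨Nat.prime_three⟩
  haveI : Fact (Nat.Prime 2) := ⟨Nat.prime_two⟩
  obtain ⟨oy, oa, ob, iy, ia, ib, py, ny, pa, na, pb, nb, nab, cab, cxy, cxa, cxb, e1, e2⟩ :=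
    four_ok
  have gy := good_ok oy
  have ga := good_ok oa
  have gb := good_ok ob
  have gx := good_three_five.1
  have ord : ∀ {T n : ℕ}, n.Prime → Good T → powT n T = idTblVal → T ≠ idTblVal →
      orderOf (el T) = n := fun {T n} hn hT hp hne => by
    haveI : Fact n.Prime := ⟨hn⟩
    exact orderOf_eq_prime (by rw [← (hT.pow n).2, hp, el_id]) fun e => hne (hT.el_eq_one.1 e)
  refine ⟨el t3, el fourY, el fourA, el fourB, gx.isInner_iff'.1 three_five.2.2.2.2,
    gy.isInner_iff'.1 iy, ga.isInner_iff'.1 ia, gb.isInner_iff'.1 ib, orderOf_t3,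
    ord Nat.prime_three gy py ny, ord Nat.prime_two ga pa na, ord Nat.prime_two gb pb nb,
    fun e => nab (ga.inj gb e), (ga.comm_iff gb).1 cab, (gx.comm_iff gy).1 cxy,
    (gx.comm_iff ga).1 cxa, (gx.comm_iff gb).1 cxb, (gy.carries_iff ga gb).1 e1, ?_⟩
  rw [(gy.carries_iff gb (ga.mul gb)).1 e2, ga.el_mul gb]

lemma pair_baseR : ∃ g : ↥pairGrp, g ∉ normR ∧
    Nat.card ↥(baseR ⊓ Subgroup.normalizer
      ((baseR.map (MulAut.conj g).toMonoidHom : Subgroup ↥pairGrp) : Set ↥pairGrp)) = 16 ∧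
    Nat.card ↥(baseR ⊓ innerGrp ⊓ Subgroup.normalizer
      ((baseR.map (MulAut.conj g).toMonoidHom : Subgroup ↥pairGrp) : Set ↥pairGrp)) = 8 := by
  obtain ⟨hp, hne, h16, h8⟩ := pair_ok
  have gp := good_ok hp
  have key : ∀ t ∈ rList, (el t ∈ Subgroup.normalizer
      ((baseR.map (MulAut.conj (el pairRep)).toMonoidHom : Subgroup ↥pairGrp) : Set ↥pairGrp) ↔
      (tblImg t (tblImg pairRep baseDuad) == tblImg pairRep baseDuad) = true) := by
    intro t ht
    rw [norm_map_conj_mem, ← normR, mem_normR_iff, mul_smul, mul_smul, inv_smul_eq_iff, duad0,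
      gp.smul_ptSet, (good_rList ht).smul_ptSet, beq_iff_eq]
    exact ⟨fun e => ptSet_injOn (tblImg_lt (good_rList ht).valid _) (tblImg_lt gp.valid _) e,
      fun e => by rw [e]⟩
  refine ⟨el pairRep, fun h => ?_, ?_, ?_⟩
  · rw [mem_normR_iff, duad0, gp.smul_ptSet] at h
    exact hne (ptSet_injOn (tblImg_lt gp.valid _) (by decide) h)
  · rw [← h16]
    refine card_of_list (rList_facts.2.filter _)
      (fun t ht => good_rList (List.mem_filter.1 ht).1) fun g => ⟨fun hg => ?_, ?_⟩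
    · obtain ⟨t, ht, rfl⟩ := mem_baseR.1 hg.1
      exact ⟨t, List.mem_filter.2 ⟨ht, (key t ht).1 hg.2⟩, rfl⟩
    · rintro ⟨t, ht, rfl⟩
      rw [List.mem_filter] at ht
      exact ⟨mem_baseR.2 ⟨t, ht.1, rfl⟩, (key t ht.1).2 ht.2⟩
  · rw [← h8]
    refine card_of_list ((rList_facts.2.filter _).filter _)
      (fun t ht => good_rList (List.mem_filter.1 (List.mem_filter.1 ht).1).1)
      fun g => ⟨fun hg => ?_, ?_⟩
    · obtain ⟨t, ht, rfl⟩ := mem_baseR.1 hg.1.1
      exact ⟨t, List.mem_filter.2 ⟨List.mem_filter.2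
        ⟨ht, (good_rList ht).isInner_iff'.2 hg.1.2⟩, (key t ht).1 hg.2⟩, rfl⟩
    · rintro ⟨t, ht, rfl⟩
      rw [List.mem_filter, rInner, List.mem_filter] at ht
      exact ⟨⟨mem_baseR.2 ⟨t, ht.1.1, rfl⟩, (good_rList ht.1.1).isInner_iff'.1 ht.1.2⟩,
        (key t ht.1.1).2 ht.2⟩

end Cfsg.Agent.H85.AutM22
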