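import Cfsg.Agent.H43.J4.Data

/-!
The data about the automorphism group are invariant under isomorphisms.
-/

set_option autoImplicit false

namespace Cfsg.Agent.H85.AutM22

open Cfsg Cfsg.Agent.H43.JFour

variable {A B : Type*} [Group A] [Group B] (e : A ≃* B)

lemma mem_map_e {K : Subgroup A} {a : A} : e a ∈ K.map e.toMonoidHom ↔ a ∈ K :=
  Subgroup.mem_map_iff_mem e.injective

lemma card_map_e (K : Subgroup A) : Nat.card (K.map e.toMonoidHom) = Nat.card K :=
  (Nat.card_congr (K.equivMapOfInjective e.toMonoidHom e.injective).toEquiv).symm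

lemma exists_map_e (K : Subgroup B) : ∃ L : Subgroup A, L.map e.toMonoidHom = K :=
  ⟨K.comap e.toMonoidHom, Subgroup.map_comap_eq_self_of_surjective e.surjective K⟩

lemma elem_map_e (p : ℕ) (K : Subgroup A) :
    IsElementaryAbelian p (K.map e.toMonoidHom) ↔ IsElementaryAbelian p K := by
  constructor
  · rintro ⟨h, h'⟩
    refine ⟨⟨⟨fun a b => Subtype.ext (e.injective ?_)⟩⟩, fun a ha => e.injective ?_⟩
    · rw [Subgroup.coe_mul, Subgroup.coe_mul, map_mul, map_mul]
      exact congrArg Subtype.val (mul_comm' (⟨e a, (mem_map_e e).2 a.2⟩ : K.map e.toMonoidHom)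
        ⟨e b, (mem_map_e e).2 b.2⟩)
    · rw [map_pow, map_one]; exact h' _ ((mem_map_e e).2 ha)
  · rintro ⟨h, h'⟩
    refine ⟨⟨⟨fun a b => ?_⟩⟩, ?_⟩
    · obtain ⟨a', ha, ha'⟩ := a.2
      obtain ⟨b', hb, hb'⟩ := b.2
      apply Subtype.ext
      have := congrArg Subtype.val (mul_comm' (⟨a', ha⟩ : K) ⟨b', hb⟩)
      simp only [Subgroup.coe_mul, ← ha', ← hb', ← map_mul]
      exact congrArg _ this
    · rintro _ ⟨a, ha, rfl⟩
      rw [← map_pow, h' a ha, map_one]

lemma isR_map_e (R : Subgroup A) : IsR (R.map e.toMonoidHom) ↔ IsR R := by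
  rw [IsR, IsR, elem_map_e, card_map_e]

lemma norm_map_e (K : Subgroup A) :
    Subgroup.normalizer ((K.map e.toMonoidHom : Subgroup B) : Set B) =
      (Subgroup.normalizer (K : Set A)).map e.toMonoidHom :=
  (Subgroup.map_equiv_normalizer_eq K e).symm

lemma cent_map_e (K : Subgroup A) :
    Subgroup.centralizer ((K.map e.toMonoidHom : Subgroup B) : Set B) =
      (Subgroup.centralizer (K : Set A)).map e.toMonoidHom := by
  ext b
  obtain ⟨a, rfl⟩ := e.surjective b
  rw [mem_map_e, Subgroup.mem_centralizer_iff, Subgroup.mem_centralizer_iff]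
  simp only [Subgroup.coe_map, Set.forall_mem_image, SetLike.mem_coe, MulEquiv.coe_toMonoidHom,
    ← map_mul, e.injective.eq_iff]

lemma conj_map_e (K : Subgroup A) (g : A) :
    (K.map (MulAut.conj g).toMonoidHom).map e.toMonoidHom =
      (K.map e.toMonoidHom).map (MulAut.conj (e g)).toMonoidHom := by
  rw [Subgroup.map_map, Subgroup.map_map]
  congr 1
  ext x
  simp

theorem autData_map {M : Subgroup A} (d : AutData A M) : AutData B (M.map e.toMonoidHom) where
  card := (Nat.card_congr e.toEquiv).symm.trans d.card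
  index := (Subgroup.index_map_of_bijective e.bijective M).trans d.index
  unique_index K hK := by
    obtain ⟨L, rfl⟩ := exists_map_e e K
    rw [Subgroup.index_map_of_bijective e.bijective L] at hK
    rw [d.unique_index L hK]
  simple := by
    haveI := d.simple
    exact (M.equivMapOfInjective e.toMonoidHom e.injective).symm.isSimpleGroup_congr.2 d.simple
  noncomm h := d.noncomm ⟨⟨fun a b => Subtype.ext (e.injective (by
    rw [Subgroup.coe_mul, Subgroup.coe_mul, map_mul, map_mul]
    exact congrArg Subtype.val (mul_comm' (⟨e a, (mem_map_e e).2 a.2⟩ : M.map e.toMonoidHom)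
      ⟨e b, (mem_map_e e).2 b.2⟩)))⟩⟩
  elem_le K hK := by
    obtain ⟨L, rfl⟩ := exists_map_e e K
    rw [card_map_e]; exact d.elem_le L ((elem_map_e e 2 L).1 hK)
  cent_R K hK := by
    obtain ⟨L, rfl⟩ := exists_map_e e K
    rw [cent_map_e, d.cent_R L ((isR_map_e e L).1 hK)]
  invol := by
    rintro _ ⟨a, ha, rfl⟩ _ ⟨b, hb, rfl⟩ h1 h2
    rw [MulEquiv.coe_toMonoidHom, MulEquiv.orderOf_eq] at h1 h2
    obtain ⟨g, hg, he⟩ := d.invol a ha b hb h1 h2
    exact ⟨e g, (mem_map_e e).2 hg, by simp [← he]⟩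
  syl_exp P b hb := by
    obtain ⟨a, rfl⟩ := e.surjective b
    let Q := P.comapOfInjective e.toMonoidHom e.injective
      (fun x _ => ⟨e.symm x, e.apply_symm_apply x⟩)
    rw [← map_pow, d.syl_exp Q a hb, map_one]
  syl_norm P := by
    let Q := P.comapOfInjective e.toMonoidHom e.injective
      (fun x _ => ⟨e.symm x, e.apply_symm_apply x⟩)
    have hP : (P : Subgroup B) = (Q : Subgroup A).map e.toMonoidHom :=
      (Subgroup.map_comap_eq_self_of_surjective e.surjective _).symm
    rw [hP, norm_map_e, card_map_e]; exact d.syl_norm Q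
  syl_trans P u hu v hv hu1 hv1 := by
    let Q := P.comapOfInjective e.toMonoidHom e.injective
      (fun x _ => ⟨e.symm x, e.apply_symm_apply x⟩)
    have hP : (P : Subgroup B) = (Q : Subgroup A).map e.toMonoidHom :=
      (Subgroup.map_comap_eq_self_of_surjective e.surjective _).symm
    obtain ⟨a, rfl⟩ := e.surjective u
    obtain ⟨b, rfl⟩ := e.surjective v
    obtain ⟨g, hg, he⟩ := d.syl_trans Q a hu b hv (fun h => hu1 (by rw [h, map_one]))
      (fun h => hv1 (by rw [h, map_one]))
    refine ⟨e g, ⟨(mem_map_e e).2 hg.1, ?_⟩, by simp [← he]⟩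
    rw [hP, norm_map_e]; exact (mem_map_e e).2 hg.2
  three_four := by
    obtain ⟨x, y, a, b, hx, hy, ha, hb, ox, oy, oa, ob, hab, cab, cxy, cxa, cxb, e1, e2⟩ :=
      d.three_four
    refine ⟨e x, e y, e a, e b, (mem_map_e e).2 hx, (mem_map_e e).2 hy, (mem_map_e e).2 ha,
      (mem_map_e e).2 hb, ?_, ?_, ?_, ?_, e.injective.ne hab, cab.map e, cxy.map e, cxa.map e,
      cxb.map e, by simp [← e1], ?_⟩
    all_goals first
      | (rw [MulEquiv.orderOf_eq]; assumption)
      | (rw [← map_inv, ← map_mul, ← map_mul, ← map_mul, e2])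
  R_exists := d.R_exists.elim fun R h => ⟨_, (isR_map_e e R).2 h⟩
  R_conj K K' h h' := by
    obtain ⟨L, rfl⟩ := exists_map_e e K
    obtain ⟨L', rfl⟩ := exists_map_e e K'
    obtain ⟨g, hg⟩ := d.R_conj L L' ((isR_map_e e L).1 h) ((isR_map_e e L').1 h')
    exact ⟨e g, by rw [← conj_map_e, hg]⟩
  R_index K h := by
    obtain ⟨L, rfl⟩ := exists_map_e e K
    rw [norm_map_e, Subgroup.index_map_of_bijective e.bijective]
    exact d.R_index L ((isR_map_e e L).1 h)
  R_fix K h := by
    obtain ⟨L, rfl⟩ := exists_map_e e K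
    rintro _ ⟨r, hr, rfl⟩ hf
    have := d.R_fix L ((isR_map_e e L).1 h) r hr fun g hg => e.injective (by
      have h' := hf (e g) (by rw [norm_map_e]; exact (mem_map_e e).2 hg)
      simpa using h')
    simp [this]
  R_six x hx := by
    obtain ⟨a, rfl⟩ := e.surjective x
    rw [MulEquiv.orderOf_eq] at hx
    rw [← d.R_six a hx]
    refine (Nat.card_eq_of_bijective
      (fun L : {R : Subgroup A // IsR R ∧ a ∈ Subgroup.normalizer (R : Set A)} =>
        (⟨L.1.map e.toMonoidHom, (isR_map_e e _).2 L.2.1, by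
          rw [norm_map_e]; exact (mem_map_e e).2 L.2.2⟩ :
          {R : Subgroup B // IsR R ∧ e a ∈ Subgroup.normalizer (R : Set B)}))
      ⟨fun L L' h => Subtype.ext (Subgroup.map_injective e.injective (congrArg Subtype.val h)),
        fun K => ?_⟩).symm
    obtain ⟨L, hL⟩ := exists_map_e e K.1
    have h2 := K.2.2
    rw [← hL, norm_map_e, mem_map_e] at h2
    exact ⟨⟨L, (isR_map_e e L).1 (hL ▸ K.2.1), h2⟩, Subtype.ext hL⟩
  R_six_trans x hx K K' h h' hn hn' := by
    obtain ⟨a, rfl⟩ := e.surjective x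
    obtain ⟨L, rfl⟩ := exists_map_e e K
    obtain ⟨L', rfl⟩ := exists_map_e e K'
    rw [MulEquiv.orderOf_eq] at hx
    rw [norm_map_e, mem_map_e] at hn hn'
    obtain ⟨g, hc, hg⟩ := d.R_six_trans a hx L L' ((isR_map_e e L).1 h) ((isR_map_e e L').1 h')
      hn hn'
    exact ⟨e g, hc.map e, by rw [← conj_map_e, hg]⟩
  R_three K h x hx hn := by
    obtain ⟨L, rfl⟩ := exists_map_e e K
    obtain ⟨a, rfl⟩ := e.surjective x
    rw [MulEquiv.orderOf_eq] at hx
    rw [norm_map_e, mem_map_e] at hn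
    rintro u ⟨⟨r, hr, rfl⟩, hu⟩ hc
    have hrM : r ∈ M := (mem_map_e e).1 hu
    have := d.R_three L ((isR_map_e e L).1 h) a hx hn r ⟨hr, hrM⟩
      (e.injective (by simpa using hc.eq))
    simp [this]
  outer_three u hu ho h3 := by
    obtain ⟨a, rfl⟩ := e.surjective u
    rw [MulEquiv.orderOf_eq] at ho
    have hc : Subgroup.centralizer ({e a} : Set B) =
        (Subgroup.centralizer ({a} : Set A)).map e.toMonoidHom := by
      ext b
      obtain ⟨c, rfl⟩ := e.surjective b
      rw [mem_map_e, Subgroup.mem_centralizer_singleton_iff,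
        Subgroup.mem_centralizer_singleton_iff, ← map_mul, ← map_mul, e.injective.eq_iff]
    rw [hc, card_map_e] at h3 ⊢
    exact d.outer_three a (fun h => hu ((mem_map_e e).2 h)) ho h3
  R_pair K h := by
    obtain ⟨L, rfl⟩ := exists_map_e e K
    obtain ⟨L', hL', hne, h16, h8⟩ := d.R_pair L ((isR_map_e e L).1 h)
    refine ⟨L'.map e.toMonoidHom, (isR_map_e e L').2 hL',
      fun hh => hne (Subgroup.map_injective e.injective hh), ?_, ?_⟩
    · rw [norm_map_e, ← Subgroup.map_inf _ _ _ e.injective, card_map_e, h16]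
    · rw [norm_map_e, ← Subgroup.map_inf _ _ _ e.injective,
        ← Subgroup.map_inf _ _ _ e.injective, card_map_e, h8]

end Cfsg.Agent.H85.AutM22
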